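import Mathlib
import Cfsg.Agent.TwoGroup.Frame

/-! A group of order 32 with centre of order two and twelve elements squaring to one is the central
product of a quaternion and a dihedral group of order eight. -/

set_option autoImplicit false

namespace CfsgLib.SmallRadical

/-- The union of a subgroup and a coset of an element normalizing it and squaring into it. -/
def extendTwo {G : Type*} [Group G] (W : Subgroup G) (t : G) (hc : ∀ x ∈ W, t * x * t⁻¹ ∈ W)
    (hc' : ∀ x ∈ W, t⁻¹ * x * t ∈ W) (ht : t * t ∈ W) : Subgroup G where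
  carrier := {g | g ∈ W ∨ g * t⁻¹ ∈ W}
  one_mem' := Or.inl W.one_mem
  mul_mem' := by
    rintro a b (ha | ha) (hb | hb)
    · exact Or.inl (W.mul_mem ha hb)
    · exact Or.inr (by rw [mul_assoc]; exact W.mul_mem ha hb)
    · refine Or.inr ?_
      have : a * b * t⁻¹ = (a * t⁻¹) * (t * b * t⁻¹) := by group
      rw [this]
      exact W.mul_mem ha (hc b hb)
    · refine Or.inl ?_
      have : a * b = (a * t⁻¹) * (t * (b * t⁻¹) * t⁻¹) * (t * t) := by group
      rw [this]
      exact W.mul_mem (W.mul_mem ha (hc _ hb)) ht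
  inv_mem' := by
    rintro a (ha | ha)
    · exact Or.inl (W.inv_mem ha)
    · refine Or.inr ?_
      have : a⁻¹ * t⁻¹ = t⁻¹ * (a * t⁻¹)⁻¹ * t * (t * t)⁻¹ := by group
      rw [this]
      exact W.mul_mem (hc' _ (W.inv_mem ha)) (W.inv_mem ht)

theorem extendTwo_mem {G : Type*} [Group G] {W : Subgroup G} {t : G} {hc hc' ht} {g : G} :
    g ∈ extendTwo W t hc hc' ht ↔ g ∈ W ∨ g * t⁻¹ ∈ W := Iff.rfl

theorem card_extendTwo {G : Type*} [Group G] {W : Subgroup G} {t : G} {hc hc' ht} (htW : t ∉ W) :
    Nat.card (extendTwo W t hc hc' ht) = 2 * Nat.card W := by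
  have hle : W ≤ extendTwo W t hc hc' ht := fun x hx => Or.inl hx
  have htm : t ∈ extendTwo W t hc hc' ht := Or.inr (by rw [mul_inv_cancel]; exact W.one_mem)
  have hidx : (W.subgroupOf (extendTwo W t hc hc' ht)).index = 2 := by
    refine Subgroup.index_eq_two_iff.2 ⟨⟨t, htm⟩, fun b => ?_⟩
    have hxor : (b : G) * t ∈ W ↔ ¬ (b : G) ∈ W := by
      constructor
      · intro h h'
        exact htW ((W.mul_mem_cancel_left h').1 h)
      · intro h
        have h2 : (b : G) * t⁻¹ ∈ W := b.2.resolve_left h
        have e : (b : G) * t = (b : G) * t⁻¹ * (t * t) := by group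
        rw [e]
        exact W.mul_mem h2 ht
    by_cases hb : (b : G) ∈ W
    · exact Or.inr ⟨hb, fun h => (hxor.1 h) hb⟩
    · exact Or.inl ⟨hxor.2 hb, hb⟩
  have h := (W.subgroupOf (extendTwo W t hc hc' ht)).card_mul_index
  rw [hidx, Nat.card_congr (Subgroup.subgroupOfEquivOfLe hle).toEquiv] at h
  omega

/-- The data recognising the central product. -/
structure MinusData (P : Type*) [Group P] (z : P) : Prop where
  card : Nat.card P = 32
  ne_one : z ≠ 1
  sq_z : z * z = 1
  central : ∀ g : P, Commute z g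
  squares : ∀ g : P, g * g = 1 ∨ g * g = z
  center : ∀ g : P, (∀ h : P, Commute g h) → g = 1 ∨ g = z
  gen : Subgroup.closure {g : P | g * g ≠ 1} = ⊤
  count : Nat.card {g : P // g * g = 1} = 12

theorem MinusData.transfer {P P' : Type*} [Group P] [Group P'] (e : P ≃* P') {z : P}
    (d : MinusData P z) : MinusData P' (e z) where
  card := by rw [← Nat.card_congr e.toEquiv, d.card]
  ne_one := fun h => d.ne_one (e.map_eq_one_iff.1 h)
  sq_z := by rw [← map_mul, d.sq_z, map_one]
  central g := by
    obtain ⟨g, rfl⟩ := e.surjective g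
    exact (d.central g).map e
  squares g := by
    obtain ⟨g, rfl⟩ := e.surjective g
    rw [← map_mul, e.map_eq_one_iff, e.injective.eq_iff]
    exact d.squares g
  center g hg := by
    obtain ⟨g, rfl⟩ := e.surjective g
    rw [e.map_eq_one_iff, e.injective.eq_iff]
    refine d.center g fun h => e.injective ?_
    rw [map_mul, map_mul]
    exact hg (e h)
  gen := by
    have h := congrArg (Subgroup.map e.toMonoidHom) d.gen
    rw [Subgroup.map_top_of_surjective _ e.surjective, MonoidHom.map_closure] at h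
    rw [← h]
    congr 1
    ext g
    constructor
    · intro hg
      obtain ⟨g, rfl⟩ := e.surjective g
      refine ⟨g, fun h' => hg ?_, rfl⟩
      rw [← map_mul, h', map_one]
    · rintro ⟨g, hg, rfl⟩ h'
      apply hg
      rw [MulEquiv.coe_toMonoidHom, ← map_mul, e.map_eq_one_iff] at h'
      exact h'
  count := by
    rw [← d.count]
    refine (Nat.card_congr (e.toEquiv.subtypeEquiv fun g => ?_)).symm
    show g * g = 1 ↔ e g * e g = 1
    rw [← map_mul, e.map_eq_one_iff]

/-- The recognition of the central product. -/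
theorem minus_product {P : Type*} [Group P] {z : P} (d : MinusData P z) :
    ∃ A B : Subgroup P, Nonempty (↥A ≃* QuaternionGroup 2) ∧ Nonempty (↥B ≃* DihedralGroup 4) ∧
      (∀ a ∈ A, ∀ b ∈ B, a * b = b * a) ∧ A ⊔ B = ⊤ ∧ A ⊓ B = Subgroup.center P := by
  classical
  haveI : Finite P := Nat.finite_of_card_ne_zero (by rw [d.card]; norm_num)
  haveI := Fintype.ofFinite P
  have hzi : z⁻¹ = z := inv_eq_of_mul_eq_one_right d.sq_z
  let c : P → P → P := fun g h => g * h * g⁻¹ * h⁻¹
  have hsq' : ∀ g : P, ∀ h, Commute (g * g) h := fun g h => by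
    rcases d.squares g with e | e <;> rw [e]
    exacts [Commute.one_left h, d.central h]
  have hc : ∀ g h, c g h = 1 ∨ c g h = z := by
    intro g h
    have e : c g h = (g * g) * ((g⁻¹ * h) * (g⁻¹ * h)) * (h * h)⁻¹ := by simp only [c]; group
    rw [e]
    rcases d.squares g with e1 | e1 <;> rcases d.squares (g⁻¹ * h) with e2 | e2 <;>
      rcases d.squares h with e3 | e3 <;> simp [e1, e2, e3, hzi, d.sq_z]
  have hcc : ∀ g h k, Commute (c g h) k := fun g h k => by
    rcases hc g h with e | e <;> rw [e]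
    exacts [Commute.one_left k, d.central k]
  have hcmul : ∀ g k h, c (g * k) h = c g h * c k h := by
    intro g k h
    have e : c (g * k) h = g * c k h * g⁻¹ * c g h := by simp only [c]; group
    rw [e, (hcc k h g).symm.eq, mul_inv_cancel_right, (hcc k h _).eq]
  have hc1 : ∀ g h, c g h = 1 ↔ g * h = h * g := by
    intro g h
    simp only [c]
    rw [mul_inv_eq_one, mul_inv_eq_iff_eq_mul]
  -- the two generators of the quaternion factor
  obtain ⟨x, hx⟩ : ∃ x : P, x * x ≠ 1 := by
    by_contra hall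
    simp only [not_exists, not_not] at hall
    have h := d.count
    rw [Nat.card_congr (Equiv.subtypeUnivEquiv hall), d.card] at h
    omega
  have hx2 : x * x = z := (d.squares x).resolve_left hx
  obtain ⟨y, hy, hxy⟩ : ∃ y : P, y * y ≠ 1 ∧ x * y ≠ y * x := by
    by_contra hall
    simp only [not_exists, not_and, not_not] at hall
    have htop : Subgroup.closure {g : P | g * g ≠ 1} ≤ Subgroup.centralizer ({x} : Set P) := by
      rw [Subgroup.closure_le]
      intro g hg
      exact Subgroup.mem_centralizer_singleton_iff.2 (hall g hg).symm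
    rw [d.gen] at htop
    rcases d.center x (fun g => (Subgroup.mem_centralizer_singleton_iff.1 (htop (Subgroup.mem_top g))).symm)
      with e | e <;> apply hx <;> rw [e]
    exacts [one_mul 1, d.sq_z]
  have hy2 : y * y = z := (d.squares y).resolve_left hy
  have hcxy : c x y = z := (hc x y).resolve_left fun e => hxy ((hc1 x y).1 e)
  have hcyx : c y x = z := (hc y x).resolve_left fun e => hxy ((hc1 y x).1 e).symm
  have hyx : y * x * y⁻¹ = x⁻¹ := by
    have h1 : y * x * y⁻¹ = c y x * x := by simp only [c]; group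
    rw [h1, hcyx, eq_inv_iff_mul_eq_one, mul_assoc, hx2, d.sq_z]
  have hxz : x ^ 2 = z := by rw [pow_two, hx2]
  have hox : orderOf x = 4 := by
    have : Fact (Nat.Prime 2) := ⟨Nat.prime_two⟩
    refine orderOf_eq_prime_pow (p := 2) (n := 1) ?_ ?_
    · rw [pow_one, hxz]; exact d.ne_one
    · rw [show 2 ^ (1 + 1) = 2 * 2 from rfl, pow_mul, hxz, pow_two, d.sq_z]
  have hyW : y ∉ Subgroup.zpowers x := by
    rintro ⟨k, rfl⟩
    exact hxy (((Commute.refl x).zpow_right k).eq)
  have hconj : ∀ a ∈ Subgroup.zpowers x, y * a * y⁻¹ ∈ Subgroup.zpowers x := by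
    rintro _ ⟨k, rfl⟩
    refine ⟨-k, ?_⟩
    show x ^ (-k) = y * x ^ k * y⁻¹
    rw [← conj_zpow, hyx, inv_zpow']
  have hty : y * y ∈ Subgroup.zpowers x := ⟨2, by show x ^ (2 : ℤ) = y * y; rw [zpow_two, hx2, hy2]⟩
  have hconj' : ∀ a ∈ Subgroup.zpowers x, y⁻¹ * a * y ∈ Subgroup.zpowers x := by
    intro a ha
    have : y⁻¹ * a * y = (y * y)⁻¹ * (y * a * y⁻¹) * (y * y) := by group
    rw [this]
    exact mul_mem (mul_mem (inv_mem hty) (hconj a ha)) hty
  let A := extendTwo (Subgroup.zpowers x) y hconj hconj' hty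
  have hxA : x ∈ A := Or.inl (Subgroup.mem_zpowers x)
  have hyA : y ∈ A := Or.inr (by rw [mul_inv_cancel]; exact one_mem _)
  have hA8 : Nat.card A = 2 * 4 := by rw [card_extendTwo hyW, Nat.card_zpowers, hox]
  let B := Subgroup.centralizer ({x, y} : Set P)
  have hBmem : ∀ g, g ∈ B ↔ g * x = x * g ∧ g * y = y * g := by
    intro g
    simp only [B, Subgroup.mem_centralizer_iff, Set.mem_insert_iff, Set.mem_singleton_iff, forall_eq_or_imp,
      forall_eq]
    exact and_congr eq_comm eq_comm
  have hAB : ∀ a ∈ A, ∀ b ∈ B, a * b = b * a := by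
    intro a ha b hb
    obtain ⟨hbx, hby⟩ := (hBmem b).1 hb
    have hp : ∀ u ∈ Subgroup.zpowers x, Commute u b := by
      rintro _ ⟨k, rfl⟩
      exact (Commute.zpow_left (show Commute x b from hbx.symm) k)
    rcases ha with ha | ha
    · exact (hp a ha).eq
    · have h := (hp _ ha).mul_left (show Commute y b from hby.symm)
      rw [inv_mul_cancel_right] at h
      exact h.eq
  have htop : ∀ g, ∃ a ∈ A, a * g ∈ B := by
    intro g
    have hcy : c y y = 1 := (hc1 y y).2 rfl
    have hcxx : c x x = 1 := (hc1 x x).2 rfl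
    have key : ∀ a, c a x = c g x → c a y = c g y → a * g ∈ B := by
      intro a h1 h2
      have hcs : ∀ u v, c u v * c u v = 1 := fun u v => by
        rcases hc u v with e | e <;> rw [e]
        exacts [one_mul 1, d.sq_z]
      rw [hBmem]
      refine ⟨(hc1 _ _).1 ?_, (hc1 _ _).1 ?_⟩
      · rw [hcmul, h1, hcs]
      · rw [hcmul, h2, hcs]
    rcases hc g x with e1 | e1 <;> rcases hc g y with e2 | e2
    · exact ⟨1, one_mem A, key 1 (by rw [e1]; simp [c]) (by rw [e2]; simp [c])⟩
    · exact ⟨x, hxA, key x (by rw [e1, hcxx]) (by rw [e2, hcxy])⟩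
    · exact ⟨y, hyA, key y (by rw [e1, hcyx]) (by rw [e2, hcy])⟩
    · exact ⟨x * y, mul_mem hxA hyA, key _ (by rw [e1, hcmul, hcxx, hcyx, one_mul])
        (by rw [e2, hcmul, hcy, hcxy, mul_one])⟩
  have hsup : A ⊔ B = ⊤ := by
    rw [eq_top_iff]
    intro g _
    obtain ⟨a, ha, hb⟩ := htop g
    have := (A ⊔ B).mul_mem ((A ⊔ B).inv_mem (Subgroup.mem_sup_left ha)) (Subgroup.mem_sup_right hb)
    simpa using this
  have hcen : ∀ g, g ∈ A → g ∈ B → g = 1 ∨ g = z := by
    intro g hgA hgB
    refine d.center g fun h => ?_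
    obtain ⟨a, ha, hb⟩ := htop h
    have h1 : Commute g a := (show a * g = g * a from hAB a ha g hgB).symm
    have h2 : Commute g (a * h) := hAB g hgA _ hb
    have := h1.inv_right.mul_right h2
    rwa [inv_mul_cancel_left] at this
  have hzA : z ∈ A := Or.inl (hxz ▸ Subgroup.npow_mem_zpowers x 2)
  have hzB : z ∈ B := (hBmem z).2 ⟨(d.central x).eq, (d.central y).eq⟩
  have hinf : A ⊓ B = Subgroup.center P := by
    ext g
    constructor
    · rintro ⟨hA, hB⟩
      rw [Subgroup.mem_center_iff]
      intro h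
      rcases hcen g hA hB with e | e <;> rw [e]
      exacts [(Commute.one_right h).eq, (d.central h).symm.eq]
    · intro hg
      rw [Subgroup.mem_center_iff] at hg
      rcases d.center g (fun h => (hg h).symm) with e | e <;> rw [e]
      exacts [⟨one_mem A, one_mem B⟩, ⟨hzA, hzB⟩]
  -- the index of `B`
  have hBcard : Nat.card B = 8 := by
    let Z := Subgroup.zpowers z
    have hZmem : ∀ g h, c g h ∈ Z := fun g h => by
      rcases hc g h with e | e <;> rw [e]
      exacts [one_mem Z, Subgroup.mem_zpowers z]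
    let f : P →* ↥Z × ↥Z := MonoidHom.mk' (fun g => (⟨c g x, hZmem g x⟩, ⟨c g y, hZmem g y⟩))
      fun g k => Prod.ext (Subtype.ext (hcmul g k x)) (Subtype.ext (hcmul g k y))
    have hker : f.ker = B := by
      ext g
      rw [MonoidHom.mem_ker, hBmem, MonoidHom.mk'_apply, Prod.ext_iff, Subtype.ext_iff, Subtype.ext_iff]
      show c g x = 1 ∧ c g y = 1 ↔ _
      rw [hc1, hc1]
    have hsurj : Function.Surjective f := by
      rw [← MonoidHom.range_eq_top, eq_top_iff]
      rintro ⟨⟨u, hu⟩, ⟨v, hv⟩⟩ -
      obtain ⟨i, rfl⟩ := Subgroup.mem_zpowers_iff.1 hu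
      obtain ⟨j, rfl⟩ := Subgroup.mem_zpowers_iff.1 hv
      refine ⟨y ^ i * x ^ j, ?_⟩
      have hfy : f y = (⟨z, Subgroup.mem_zpowers z⟩, 1) :=
        Prod.ext (Subtype.ext hcyx) (Subtype.ext ((hc1 y y).2 rfl))
      have hfx : f x = (1, ⟨z, Subgroup.mem_zpowers z⟩) :=
        Prod.ext (Subtype.ext ((hc1 x x).2 rfl)) (Subtype.ext hcxy)
      rw [map_mul, map_zpow, map_zpow, hfy, hfx]
      ext <;> simp
    have h1 := f.ker.card_mul_index
    rw [Subgroup.index_ker, MonoidHom.range_eq_top.2 hsurj, Subgroup.card_top, Nat.card_prod,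
      Nat.card_zpowers, orderOf_eq_prime (by rw [pow_two, d.sq_z]) d.ne_one, hker, d.card] at h1
    omega
  -- an involution in `B`
  obtain ⟨b, hbB, hb2, hbz⟩ : ∃ b ∈ B, b * b = 1 ∧ (b ≠ 1 ∧ b ≠ z) := by
    by_contra hall
    simp only [not_exists, not_and] at hall
    set Bs : Finset P := Finset.univ.filter (fun b => b ∈ B ∧ b ≠ 1 ∧ b ≠ z) with hBs
    have hBs6 : 6 ≤ Bs.card := by
      have h1 : (Finset.univ.filter (fun b => b ∈ B)).card = 8 := by
        rw [← Fintype.card_subtype, ← Nat.card_eq_fintype_card]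
        exact hBcard
      have h2 : Finset.univ.filter (fun b => b ∈ B) ⊆ Bs ∪ {1, z} := by
        intro b hb
        rw [Finset.mem_filter] at hb
        by_cases e1 : b = 1
        · simp [e1]
        · by_cases e2 : b = z
          · simp [e2]
          · simp [hBs, hb.2, e1, e2]
      have h3 := (Finset.card_le_card h2).trans (Finset.card_union_le _ _)
      have h4 := Finset.card_le_two (a := (1 : P)) (b := z)
      omega
    have hinj : Set.InjOn (fun p : P × P => p.1 * p.2) (↑(({x, y, x * y} : Finset P) ×ˢ Bs) : Set (P × P)) := by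
      rintro ⟨a, b⟩ hab ⟨a', b'⟩ hab' he
      simp only [Finset.coe_product, Set.mem_prod, Finset.mem_coe, Finset.mem_insert,
        Finset.mem_singleton, hBs, Finset.mem_filter] at hab hab'
      simp only at he
      have haA : a ∈ A := by
        rcases hab.1 with e | e | e <;> rw [e]
        exacts [hxA, hyA, mul_mem hxA hyA]
      have haA' : a' ∈ A := by
        rcases hab'.1 with e | e | e <;> rw [e]
        exacts [hxA, hyA, mul_mem hxA hyA]
      have he2 : a'⁻¹ * a = b' * b⁻¹ := by
        rw [inv_mul_eq_iff_eq_mul, ← mul_assoc, eq_mul_inv_iff_mul_eq]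
        exact he
      have hk := hcen (a'⁻¹ * a) (mul_mem (inv_mem haA') haA)
        (he2 ▸ mul_mem hab'.2.2.1 (inv_mem hab.2.2.1))
      have hzc : ∀ g : P, Commute (a'⁻¹ * a) g := fun g => by
        rcases hk with e | e <;> rw [e]
        exacts [Commute.one_left g, d.central g]
      have hca : ∀ g, c a g = c a' g := fun g => by
        have h1 : c (a'⁻¹ * a) g = 1 := (hc1 _ _).2 (hzc g).eq
        calc c a g = c (a' * (a'⁻¹ * a)) g := by rw [mul_inv_cancel_left]
          _ = c a' g := by rw [hcmul, h1, mul_one]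
      have hxx : c x x = 1 := (hc1 x x).2 rfl
      have hyy : c y y = 1 := (hc1 y y).2 rfl
      have exy1 : c (x * y) x = z := by rw [hcmul, hxx, hcyx, one_mul]
      have exy2 : c (x * y) y = z := by rw [hcmul, hyy, hcxy, mul_one]
      have h1 := hca x
      have h2 := hca y
      have hz1 := d.ne_one
      have hz2 := Ne.symm d.ne_one
      have haa : a = a' := by
        rcases hab.1 with e | e | e <;> rcases hab'.1 with e' | e' | e' <;> subst e <;> subst e' <;>
          simp only [hxx, hyy, hcxy, hcyx, exy1, exy2] at h1 h2 <;> first | rfl | contradiction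
      subst haa
      exact Prod.ext rfl (mul_left_cancel he)
    have hcard := Finset.card_image_of_injOn hinj
    have hsub : (({x, y, x * y} : Finset P) ×ˢ Bs).image (fun p : P × P => p.1 * p.2) ⊆
        Finset.univ.filter (fun g : P => g * g = 1) := by
      intro g hg
      obtain ⟨⟨a, b⟩, hp, rfl⟩ := Finset.mem_image.1 hg
      rw [Finset.mem_product, hBs, Finset.mem_filter] at hp
      obtain ⟨ha, -, hb, hb1, hb2⟩ := hp
      have haA : a ∈ A ∧ a * a = z := by
        simp only [Finset.mem_insert, Finset.mem_singleton] at ha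
        rcases ha with e | e | e <;> rw [e]
        · exact ⟨hxA, hx2⟩
        · exact ⟨hyA, hy2⟩
        · refine ⟨mul_mem hxA hyA, ?_⟩
          calc x * y * (x * y) = x * (y * x * y⁻¹) * (y * y) := by group
            _ = z := by rw [hyx, mul_inv_cancel, one_mul, hy2]
      have hbsq : b * b = z := (d.squares b).resolve_left fun h => (hall b hb h hb1) hb2
      rw [Finset.mem_filter]
      refine ⟨Finset.mem_univ _, ?_⟩
      show a * b * (a * b) = 1
      have e : a * b * (a * b) = a * (b * a) * b := by group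
      rw [e, ← hAB a haA.1 b hb, ← mul_assoc, haA.2, mul_assoc, hbsq, d.sq_z]
    have h12 := Finset.card_le_card hsub
    have h12' : (Finset.univ.filter (fun g : P => g * g = 1)).card = 12 := by
      rw [← Fintype.card_subtype, ← Nat.card_eq_fintype_card]
      exact d.count
    rw [hcard, Finset.card_product, h12'] at h12
    have h3 : ({x, y, x * y} : Finset P).card = 3 := by
      have e1 : x ≠ y := fun e => hxy (by rw [e])
      have e2 : x ≠ x * y := fun e => hy (by rw [left_eq_mul.1 e, one_mul])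
      have e3 : y ≠ x * y := fun e => hx (by rw [right_eq_mul.1 e, one_mul])
      simp [e1, e2, e3]
    rw [h3] at h12
    omega
  obtain ⟨e, heB, heb⟩ : ∃ e ∈ B, b * e ≠ e * b := by
    by_contra hall
    simp only [not_exists, not_and, not_not] at hall
    have : ∀ h, Commute b h := fun h => by
      obtain ⟨a, ha, hb⟩ := htop h
      have h1 : Commute b a := (hAB a ha b hbB).symm
      have h2 : Commute b (a * h) := hall _ hb
      have := h1.inv_right.mul_right h2
      rwa [inv_mul_cancel_left] at this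
    rcases d.center b this with h | h
    exacts [hbz.1 h, hbz.2 h]
  obtain ⟨r, hrB, hr2, hrb⟩ : ∃ r ∈ B, r * r = z ∧ b * r ≠ r * b := by
    rcases d.squares e with he | he
    · refine ⟨e * b, mul_mem heB hbB, ?_, fun h => ?_⟩
      · refine (d.squares _).resolve_left fun h => heb ?_
        have h1 := inv_eq_of_mul_eq_one_right h
        rw [mul_inv_rev, inv_eq_of_mul_eq_one_right hb2, inv_eq_of_mul_eq_one_right he] at h1
        exact h1
      · apply heb
        have h2 := congrArg (fun g => g * b) h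
        simpa [mul_assoc, hb2] using h2
    · exact ⟨e, heB, he, heb⟩
  have hcbr : c b r = z := (hc b r).resolve_left fun h => hrb ((hc1 b r).1 h)
  have hbr : b * r * b⁻¹ = r⁻¹ := by
    have h1 : b * r * b⁻¹ = c b r * r := by simp only [c]; group
    rw [h1, hcbr, eq_inv_iff_mul_eq_one, mul_assoc, hr2, d.sq_z]
  have hor : orderOf r = 4 := by
    have : Fact (Nat.Prime 2) := ⟨Nat.prime_two⟩
    refine orderOf_eq_prime_pow (p := 2) (n := 1) ?_ ?_
    · rw [pow_one, pow_two, hr2]; exact d.ne_one
    · rw [show 2 ^ (1 + 1) = 2 * 2 from rfl, pow_mul, pow_two r, hr2, pow_two, d.sq_z]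
  refine ⟨A, B, ?_, ?_, hAB, hsup, hinf⟩
  · let F := CfsgLib.TwoGroup.Frame.ofGen (G := A) ⟨x, hxA⟩ ⟨y, hyA⟩ 4
      (by rw [Subgroup.orderOf_mk, hox]) hA8
      (fun ⟨k, hk⟩ => hyW ⟨k, by simpa using congrArg Subtype.val hk⟩) (-1) 2
      (Subtype.ext (by simpa using hyx))
      (Subtype.ext (by
        show y * y = ((⟨x, hxA⟩ : A) ^ (2 : ℤ) : A)
        rw [Subgroup.coe_zpow, zpow_two, hy2]
        exact hx2.symm))
    exact (F.congr (r' := -1) (s' := 2) (by norm_num) (by norm_num)).nonempty_mulEquiv_quaternion (m := 2) rfl rfl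
  · let F := CfsgLib.TwoGroup.Frame.ofGen (G := B) ⟨r, hrB⟩ ⟨b, hbB⟩ 4
      (by rw [Subgroup.orderOf_mk, hor]) (by rw [hBcard])
      (fun ⟨k, hk⟩ => hrb (by
        have hk' : r ^ k = b := by simpa using congrArg Subtype.val hk
        rw [← hk']
        exact (Commute.zpow_left (Commute.refl r) k).eq)) (-1) 0
      (Subtype.ext (by simpa using hbr)) (Subtype.ext (by simpa using hb2))
    exact (F.congr (r' := -1) (s' := 0) (by norm_num) (by norm_num)).nonempty_mulEquiv_dihedral

end CfsgLib.SmallRadical
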