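import Mathlib

/-! Arithmetic in the free module of rank three over the integers modulo four. -/

set_option autoImplicit false

namespace CfsgLib.SmallRadical

/-- The free module of rank three over `ZMod 4`. -/
abbrev V4 : Type := ZMod 4 × ZMod 4 × ZMod 4

/-- The linear map with the given images of the basis. -/
def app (a b c v : V4) : V4 :=
  (v.1 * a.1 + v.2.1 * b.1 + v.2.2 * c.1,
    v.1 * a.2.1 + v.2.1 * b.2.1 + v.2.2 * c.2.1,
    v.1 * a.2.2 + v.2.1 * b.2.2 + v.2.2 * c.2.2)

theorem addHom_eq_app (f : V4 →+ V4) (v : V4) :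
    f v = app (f (1, 0, 0)) (f (0, 1, 0)) (f (0, 0, 1)) v := by
  obtain ⟨a, b, c⟩ := v
  have e : ((a, b, c) : V4) = a.val • ((1, 0, 0) : V4) + b.val • ((0, 1, 0) : V4) +
      c.val • ((0, 0, 1) : V4) := by
    ext <;> simp
  conv_lhs => rw [e, map_add, map_add, map_nsmul, map_nsmul, map_nsmul]
  ext <;> simp [app]

/-- The triple product. -/
def tri (a b c : V4) : ZMod 4 :=
  a.1 * (b.2.1 * c.2.2 - b.2.2 * c.2.1) - a.2.1 * (b.1 * c.2.2 - b.2.2 * c.1) +
    a.2.2 * (b.1 * c.2.1 - b.2.1 * c.1)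

/-- The determinant of an additive endomorphism. -/
def del (f : V4 →+ V4) : ZMod 4 := tri (f (1, 0, 0)) (f (0, 1, 0)) (f (0, 0, 1))

theorem del_comp (f g : V4 →+ V4) : del (f.comp g) = del f * del g := by
  unfold del
  rw [AddMonoidHom.comp_apply, AddMonoidHom.comp_apply, AddMonoidHom.comp_apply, addHom_eq_app f (g _),
    addHom_eq_app f (g (0, 1, 0)), addHom_eq_app f (g (0, 0, 1))]
  generalize f (1, 0, 0) = A
  generalize f (0, 1, 0) = B
  generalize f (0, 0, 1) = C
  generalize g (1, 0, 0) = a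
  generalize g (0, 1, 0) = b
  generalize g (0, 0, 1) = c
  simp only [tri, app]
  ring

theorem del_id : del (AddMonoidHom.id V4) = 1 := by decide

/-- The distinguished endomorphism. -/
def rA (v : V4) : V4 := app (0, 1, 0) (0, 0, 1) (1, 3, 1) v

/-- Its square. -/
def tC (v : V4) : V4 := rA (rA v)

theorem companion_unique : ∀ a b c : ZMod 4, tri (0, 1, 0) (0, 0, 1) (a, b, c) = 1 →
    (let A := app (0, 1, 0) (0, 0, 1) (a, b, c); A (A (A (A (1, 0, 0)))) = (1, 0, 0)) →
    (a, b, c) = ((1, 3, 1) : V4) := by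
  decide +kernel

/-- Membership in the subgroup of order two. -/
def inN (v : V4) : Bool := v == (0, 0, 0) || v == (2, 0, 2)

/-- Membership in the subgroup of order sixteen. -/
def inD (v : V4) : Bool := v.2.1.val % 2 == 0 && (v.1.val + v.2.2.val) % 2 == 0

theorem fixed_rA : ∀ v : V4, rA v = v → ∃ j : ZMod 4, v + (j * 1, j * 0, j * 0) + tC (j * 1, j * 0, j * 0) = 0 := by
  decide +kernel

theorem tC_facts : (∀ v : V4, inD v = true → inN (tC v - v) = true) ∧ tC (2, 0, 2) = (2, 0, 2) ∧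
    ((0, 1, 3) : V4) + tC (0, 1, 3) = 0 := by
  decide +kernel

/-- The lifts of a vector modulo two. -/
def liftV (a : V4) : List V4 :=
  [a, a + (2, 0, 0), a + (0, 2, 0), a + (0, 0, 2), a + (2, 2, 0), a + (2, 0, 2), a + (0, 2, 2),
    a + (2, 2, 2)]

/-- The conditions on a second involution. -/
def secondOK (a b c : V4) : Bool :=
  let B := app a b c
  !(B a == (1, 0, 0) && B b == (0, 1, 0) && B c == (0, 0, 1) &&
      B (tC (1, 0, 0)) == tC a && B (tC (0, 1, 0)) == tC b && B (tC (0, 0, 1)) == tC c) ||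
    ((List.range 64).all fun k =>
      let v : V4 := (((k % 4 : ℕ) : ZMod 4), ((k / 4 % 4 : ℕ) : ZMod 4), ((k / 16 : ℕ) : ZMod 4))
      (!inD v || inN (B v - v)) &&
      (!(tC v == -v && B v == -v) || inN v || inN (v + (0, 1, 3) + tC (B (0, 1, 3)))))

theorem second_all : ((liftV (0, 0, 1)).all fun a => (liftV (0, 1, 0)).all fun b =>
    (liftV (1, 0, 0)).all fun c => secondOK a b c) = true := by
  decide +kernel

theorem liftV_complete : ∀ a v : V4, 2 • v = 2 • a → v ∈ liftV a := by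
  decide +kernel

end CfsgLib.SmallRadical
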