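import Cfsg.Agent.SmallRadical.Stage
import Cfsg.Agent.SmallRadical.Central
import Cfsg.Agent.SmallRadical.Quad

/-! A group with a normal homocyclic subgroup of exponent four and rank three acted on by `L₃(2)` has
sectional 2-rank at least five. -/

set_option autoImplicit false

namespace CfsgLib.SmallRadical

open scoped commutatorElement

/-- `L₃(2)` as matrices. -/
abbrev SL32 : Type := Matrix.SpecialLinearGroup (Fin 3) (ZMod 2)

/-- Reduction modulo two. -/
def red (v : V4) : Fin 3 → ZMod 2 :=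
  ![ZMod.castHom (by norm_num : 2 ∣ 4) (ZMod 2) v.1, ZMod.castHom (by norm_num : 2 ∣ 4) (ZMod 2) v.2.1,
    ZMod.castHom (by norm_num : 2 ∣ 4) (ZMod 2) v.2.2]

theorem red_eq_iff : ∀ a v : V4, red v = red a ↔ 2 • v = 2 • a := by decide +kernel

/-- The regular unipotent matrix. -/
def R0 : SL32 := ⟨!![0, 0, 1; 1, 0, 1; 0, 1, 1], by decide⟩

/-- An involution with the same centre as `R0 ^ 2`. -/
def S0 : SL32 := ⟨!![0, 0, 1; 0, 1, 0; 1, 0, 0], by decide⟩

/-- A conjugating matrix. -/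
theorem exists_conj_S0 : ∃ K : SL32, K * (R0 * R0) = S0 * K := by decide +kernel

theorem R0_cols : (R0 : Matrix (Fin 3) (Fin 3) (ZMod 2)).mulVec (red (1, 0, 0)) = red (0, 1, 0) ∧
    (R0 : Matrix (Fin 3) (Fin 3) (ZMod 2)).mulVec (red (0, 1, 0)) = red (0, 0, 1) ∧
    (R0 : Matrix (Fin 3) (Fin 3) (ZMod 2)).mulVec (red (0, 0, 1)) = red (1, 1, 1) := by decide

theorem S0_cols : (S0 : Matrix (Fin 3) (Fin 3) (ZMod 2)).mulVec (red (1, 0, 0)) = red (0, 0, 1) ∧
    (S0 : Matrix (Fin 3) (Fin 3) (ZMod 2)).mulVec (red (0, 1, 0)) = red (0, 1, 0) ∧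
    (S0 : Matrix (Fin 3) (Fin 3) (ZMod 2)).mulVec (red (0, 0, 1)) = red (1, 0, 0) := by decide

variable {G : Type*} [Group G]

theorem extendTwo_sq {W N : Subgroup G} {t : G} {hc hc' ht}
    (hN : ∀ n ∈ N, t * n * t⁻¹ ∈ N) (hWN : ∀ w ∈ W, ∀ n ∈ N, w * n * w⁻¹ ∈ N)
    (hsq : ∀ w ∈ W, w * w ∈ N) (htN : t * t ∈ N) (hcom : ∀ w ∈ W, w⁻¹ * (t * w * t⁻¹) ∈ N) :
    (∀ h ∈ extendTwo W t hc hc' ht, ∀ n ∈ N, h * n * h⁻¹ ∈ N) ∧
      ∀ h ∈ extendTwo W t hc hc' ht, h * h ∈ N := by
  refine ⟨?_, ?_⟩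
  · rintro h (hh | hh) n hn
    · exact hWN h hh n hn
    · have e : h * n * h⁻¹ = (h * t⁻¹) * (t * n * t⁻¹) * (h * t⁻¹)⁻¹ := by group
      rw [e]
      exact hWN _ hh _ (hN n hn)
  · rintro h (hh | hh)
    · exact hsq h hh
    · have e : h * h = (h * t⁻¹) * (h * t⁻¹) * ((h * t⁻¹)⁻¹ * (t * (h * t⁻¹) * t⁻¹)) * (t * t) := by
        group
      rw [e]
      exact N.mul_mem (N.mul_mem (hsq _ hh) (hcom _ hh)) htN

/-- Coordinates on a normal homocyclic subgroup compatible with a homomorphism onto `L₃(2)`. -/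
structure Coord (π : G →* SL32) (M : Subgroup G) where
  φ : V4 → G
  mem : ∀ v, φ v ∈ M
  surj : ∀ m ∈ M, ∃ v, φ v = m
  inj : Function.Injective φ
  map_add : ∀ u v, φ (u + v) = φ u * φ v
  conj : ∀ g v w, g * φ v * g⁻¹ = φ w → (π g : Matrix (Fin 3) (Fin 3) (ZMod 2)).mulVec (red v) = red w
  normal : M.Normal

namespace Coord

variable {π : G →* SL32} {M : Subgroup G} (C : Coord π M)

theorem map_zero : C.φ 0 = 1 := by
  have h := C.map_add 0 0
  rw [add_zero] at h
  exact mul_eq_left.1 h.symm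

theorem map_neg (v : V4) : C.φ (-v) = (C.φ v)⁻¹ :=
  eq_inv_of_mul_eq_one_left (by rw [← C.map_add, neg_add_cancel, C.map_zero])

theorem exists_act (g : G) (v : V4) : ∃ w, C.φ w = g * C.φ v * g⁻¹ :=
  C.surj _ (C.normal.conj_mem _ (C.mem v) g)

/-- The action in coordinates. -/
noncomputable def act (g : G) : V4 →+ V4 where
  toFun v := (C.exists_act g v).choose
  map_zero' := C.inj (by rw [(C.exists_act g 0).choose_spec, C.map_zero]; group)
  map_add' u v := C.inj (by
    rw [(C.exists_act g (u + v)).choose_spec, C.map_add, C.map_add, (C.exists_act g u).choose_spec,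
      (C.exists_act g v).choose_spec]
    group)

theorem act_spec (g : G) (v : V4) : g * C.φ v * g⁻¹ = C.φ (C.act g v) :=
  (C.exists_act g v).choose_spec.symm

theorem act_red (g : G) (v : V4) :
    red (C.act g v) = (π g : Matrix (Fin 3) (Fin 3) (ZMod 2)).mulVec (red v) :=
  (C.conj g v _ (C.act_spec g v)).symm

theorem act_mul (g h : G) : C.act (g * h) = (C.act g).comp (C.act h) := by
  refine AddMonoidHom.ext fun v => C.inj ?_
  rw [AddMonoidHom.comp_apply, ← C.act_spec, ← C.act_spec, ← C.act_spec]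
  group

theorem act_of_commute (g : G) (h : ∀ v, g * C.φ v = C.φ v * g) : C.act g = AddMonoidHom.id V4 := by
  refine AddMonoidHom.ext fun v => C.inj ?_
  rw [← C.act_spec, AddMonoidHom.id_apply, h, mul_inv_cancel_right]

theorem act_mem {g : G} (hg : g ∈ M) : C.act g = AddMonoidHom.id V4 := by
  refine C.act_of_commute g fun v => ?_
  obtain ⟨u, rfl⟩ := C.surj g hg
  rw [← C.map_add, ← C.map_add, add_comm]

/-- The determinant character. -/
noncomputable def detHom : G →* ZMod 4 where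
  toFun g := del (C.act g)
  map_one' := by
    rw [C.act_of_commute 1 fun v => by rw [one_mul, mul_one], del_id]
  map_mul' g h := by rw [C.act_mul, del_comp]

theorem det_commutator {g : G} (hg : g ∈ commutator G) : C.detHom g = 1 := by
  suffices commutator G ≤ C.detHom.ker from this hg
  rw [commutator_def, Subgroup.commutator_le]
  intro a _ b _
  rw [MonoidHom.mem_ker, commutatorElement_def, map_mul, map_mul, map_mul]
  calc C.detHom a * C.detHom b * C.detHom a⁻¹ * C.detHom b⁻¹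
      = (C.detHom a * C.detHom a⁻¹) * (C.detHom b * C.detHom b⁻¹) := by ring
    _ = 1 := by rw [← map_mul, ← map_mul, mul_inv_cancel, mul_inv_cancel, map_one, one_mul]

/-- Change of the basis by an endomorphism which is the identity modulo two. -/
def change (D : V4 →+ V4) (hD : ∀ w, red (D w) = red w) : Coord π M where
  φ v := C.φ (D v)
  mem v := C.mem _
  surj m hm := by
    obtain ⟨v, rfl⟩ := C.surj m hm
    have hinj : Function.Injective D := by
      rw [injective_iff_map_eq_zero]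
      intro w hw
      have h1 : red w = red 0 := by rw [← hD w, hw]
      obtain ⟨u, hu⟩ : ∃ u : V4, w = 2 • u := (by decide +kernel : ∀ w : V4, 2 • w = 0 → ∃ u, w = 2 • u) w
        (by simpa using (red_eq_iff 0 w).1 h1)
      have h2 : 2 • D u = 2 • (0 : V4) := by rw [← map_nsmul, ← hu, hw, smul_zero]
      have h3 : red u = red 0 := by rw [← hD u]; exact (red_eq_iff 0 (D u)).2 h2
      rw [hu, (red_eq_iff 0 u).1 h3, smul_zero]
    obtain ⟨u, hu⟩ := Finite.injective_iff_surjective.1 hinj v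
    exact ⟨u, by rw [hu]⟩
  inj := fun u v h => by
    have hinj : Function.Injective D := by
      rw [injective_iff_map_eq_zero]
      intro w hw
      have h1 : red w = red 0 := by rw [← hD w, hw]
      obtain ⟨u, hu⟩ : ∃ u : V4, w = 2 • u := (by decide +kernel : ∀ w : V4, 2 • w = 0 → ∃ u, w = 2 • u) w
        (by simpa using (red_eq_iff 0 w).1 h1)
      have h2 : 2 • D u = 2 • (0 : V4) := by rw [← map_nsmul, ← hu, hw, smul_zero]
      have h3 : red u = red 0 := by rw [← hD u]; exact (red_eq_iff 0 (D u)).2 h2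
      rw [hu, (red_eq_iff 0 u).1 h3, smul_zero]
    exact hinj (C.inj h)
  map_add u v := (congrArg C.φ (_root_.map_add D u v)).trans (C.map_add _ _)
  conj g v w h := by rw [← hD v, ← hD w]; exact C.conj g _ _ h
  normal := C.normal

include C in
/-- Coordinates in which a given lift of `R0` of determinant one and order dividing four modulo the
centralizer is the standard one. -/
theorem exists_standard {r : G} (hr : π r = R0) (hrc : r ∈ commutator G) (hr4 : r * r * (r * r) ∈ M) :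
    ∃ C' : Coord π M, ∀ v, C'.act r v = rA v := by
  obtain ⟨hc0, hc1, hc2⟩ := R0_cols
  let A := C.act r
  let D : V4 →+ V4 :=
    { toFun := fun w => app (1, 0, 0) (A (1, 0, 0)) (A (A (1, 0, 0))) w
      map_zero' := by simp [app]
      map_add' := fun u v => by
        ext <;> simp [app] <;> ring }
  have hD : ∀ w, red (D w) = red w := by
    intro w
    rw [red_eq_iff]
    have h1 : red (A (1, 0, 0)) = red (0, 1, 0) := by rw [C.act_red, hr, hc0]
    have h2 : red (A (A (1, 0, 0))) = red (0, 0, 1) := by rw [C.act_red, hr, h1, hc1]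
    rw [red_eq_iff] at h1 h2
    obtain ⟨a, b, c⟩ := w
    show 2 • app (1, 0, 0) (A (1, 0, 0)) (A (A (1, 0, 0))) (a, b, c) = 2 • (a, b, c)
    generalize A (A (1, 0, 0)) = q at h2
    generalize A (1, 0, 0) = u at h1
    obtain ⟨u1, u2, u3⟩ := u
    obtain ⟨q1, q2, q3⟩ := q
    simp only [Prod.smul_mk, Prod.mk.injEq] at h1 h2
    simp only [app, Prod.smul_mk, Prod.mk.injEq, nsmul_eq_mul, Nat.cast_ofNat] at h1 h2 ⊢
    refine ⟨?_, ?_, ?_⟩
    · linear_combination b * h1.1 + c * h2.1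
    · linear_combination b * h1.2.1 + c * h2.2.1
    · linear_combination b * h1.2.2 + c * h2.2.2
  refine ⟨C.change D hD, ?_⟩
  set C' := C.change D hD
  have hDv : ∀ w, C'.φ w = C.φ (D w) := fun w => rfl
  have hD0 : D (1, 0, 0) = (1, 0, 0) := by show app _ _ _ _ = _; simp [app]
  have hD1 : D (0, 1, 0) = A (1, 0, 0) := by show app _ _ _ _ = _; simp [app]
  have hD2 : D (0, 0, 1) = A (A (1, 0, 0)) := by show app _ _ _ _ = _; simp [app]
  have h0 : C'.act r (1, 0, 0) = (0, 1, 0) := C'.inj (by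
    rw [← C'.act_spec, hDv, hDv, hD0, hD1, C.act_spec])
  have h1 : C'.act r (0, 1, 0) = (0, 0, 1) := C'.inj (by
    rw [← C'.act_spec, hDv, hDv, hD1, hD2, C.act_spec])
  obtain ⟨a, b, c, h2⟩ : ∃ a b c, C'.act r (0, 0, 1) = (a, b, c) := ⟨_, _, _, rfl⟩
  have hdet : C'.detHom r = 1 := C'.det_commutator hrc
  have hdet' : tri (0, 1, 0) (0, 0, 1) (a, b, c) = 1 := by
    rw [← h0, ← h1, ← h2]
    exact hdet
  have h4 : C'.act (r * r * (r * r)) = AddMonoidHom.id V4 := C'.act_mem hr4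
  have happ : ∀ v, C'.act r v = app (0, 1, 0) (0, 0, 1) (a, b, c) v := by
    intro v
    rw [addHom_eq_app (C'.act r), h0, h1, h2]
  have hfour : (let A := app (0, 1, 0) (0, 0, 1) (a, b, c); A (A (A (A (1, 0, 0)))) = (1, 0, 0)) := by
    have h := congrArg (fun f : V4 →+ V4 => f (1, 0, 0)) h4
    simp only [C'.act_mul, AddMonoidHom.comp_apply, AddMonoidHom.id_apply, happ] at h
    exact h
  have habc := companion_unique a b c hdet' hfour
  intro v
  rw [happ, habc]
  rfl

include C in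
/-- The contradiction with the rank. -/
theorem false_of_lifts [Finite G] (hR : RankFour G) (hπ : Function.Surjective π)
    {r : G} (hr : π r = R0) (hrc : r ∈ commutator G) (hr4 : r * r * (r * r) ∈ M)
    (hw : ∀ y₁ y₂ : G, π y₁ = R0 * R0 → π y₂ = S0 → y₁ * y₁ = 1 → y₂ * y₂ = 1 →
      y₁ * y₂ * (y₁ * y₂) ∈ M) : False := by
  obtain ⟨C, hA⟩ := C.exists_standard hr hrc hr4
  -- an involution over `R0 ^ 2`
  set t := r * r with htdef
  have hCt : ∀ v, C.act t v = tC v := fun v => by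
    rw [htdef, C.act_mul, AddMonoidHom.comp_apply, hA, hA]; rfl
  obtain ⟨m, hm⟩ := C.surj _ hr4
  have hmfix : rA m = m := by
    rw [← hA]
    refine C.inj ?_
    rw [← C.act_spec, hm, htdef]
    group
  obtain ⟨j, hj⟩ := fixed_rA m hmfix
  set t' := C.φ (j * 1, j * 0, j * 0) * t with ht'def
  have hsqφ : ∀ (y : V4) (s : G), C.φ y * s * (C.φ y * s) = C.φ (y + C.act s y) * (s * s) := by
    intro y s
    rw [C.map_add, ← C.act_spec]
    group
  have hπM : ∀ v, π (C.φ v) = 1 := by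
    intro v
    apply Subtype.ext
    have hact := C.act_red (C.φ v)
    rw [C.act_mem (C.mem v)] at hact
    have hall : ∀ u, (π (C.φ v) : Matrix (Fin 3) (Fin 3) (ZMod 2)).mulVec u = u := by
      intro u
      obtain ⟨w, rfl⟩ := (by decide +kernel : ∀ u : Fin 3 → ZMod 2, ∃ w : V4, red w = u) u
      exact (hact w).symm
    refine Matrix.ext_iff_mulVec.2 fun u => ?_
    rw [hall, Matrix.SpecialLinearGroup.coe_one, Matrix.one_mulVec]
  have ht'2 : t' * t' = 1 := by
    rw [ht'def, hsqφ, hCt, ← hm, ← C.map_add]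
    rw [show (j * 1, j * 0, j * 0) + tC (j * 1, j * 0, j * 0) + m = (0 : V4) by rw [← hj]; abel]
    exact C.map_zero
  have hπt' : π t' = R0 * R0 := by
    rw [ht'def, map_mul, hπM, one_mul, htdef, map_mul, hr]
  have hCt' : ∀ v, C.act t' v = tC v := fun v => by
    rw [ht'def, C.act_mul, AddMonoidHom.comp_apply, C.act_mem (C.mem _), hCt]; rfl
  -- the second involution
  obtain ⟨K, hK⟩ := exists_conj_S0
  obtain ⟨k, rfl⟩ := hπ K
  set t2 := k * t' * k⁻¹ with ht2def
  have ht22 : t2 * t2 = 1 := by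
    rw [ht2def]
    calc k * t' * k⁻¹ * (k * t' * k⁻¹) = k * (t' * t') * k⁻¹ := by group
      _ = 1 := by rw [ht'2]; group
  have hπt2 : π t2 = S0 := by
    rw [ht2def, map_mul, map_mul, map_inv, hπt', hK, mul_inv_cancel_right]
  have hwM := hw t' t2 hπt' hπt2 ht'2 ht22
  obtain ⟨w, hwe⟩ := C.surj _ hwM
  have ht'i : t'⁻¹ = t' := inv_eq_of_mul_eq_one_right ht'2
  have ht2i : t2⁻¹ = t2 := inv_eq_of_mul_eq_one_right ht22
  set B := C.act t2 with hB
  have hCw : tC w = -w := by
    rw [← hCt']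
    refine C.inj ?_
    rw [← C.act_spec, C.map_neg, hwe]
    simp only [mul_inv_rev, ht'i, ht2i]
    simp only [mul_assoc]
    rw [← mul_assoc t' t', ht'2, one_mul]
  have hBw : B w = -w := by
    refine C.inj ?_
    rw [← C.act_spec, C.map_neg, hwe]
    simp only [mul_inv_rev, ht'i, ht2i]
    simp only [mul_assoc]
    rw [ht22, mul_one]
  have hBB : ∀ v, B (B v) = v := by
    intro v
    rw [hB, ← AddMonoidHom.comp_apply, ← C.act_mul, ht22, C.act_of_commute 1 fun u => by rw [one_mul, mul_one]]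
    rfl
  have hBC : ∀ v, B (tC v) = tC (B v) := by
    intro v
    have h1 : t2 * t' = t' * t2 * (t' * t2 * (t' * t2))⁻¹ := by
      simp only [mul_inv_rev, ht'i, ht2i]
      simp only [mul_assoc]
      rw [← mul_assoc t2 t2, ht22, one_mul, ← mul_assoc t' t', ht'2, one_mul]
    rw [← hCt', ← hCt', hB, ← AddMonoidHom.comp_apply, ← C.act_mul, h1, C.act_mul, C.act_mem (inv_mem hwM),
      C.act_mul]
    rfl
  -- the entries of `B`
  have hBapp : ∀ v, B v = app (B (1, 0, 0)) (B (0, 1, 0)) (B (0, 0, 1)) v := addHom_eq_app B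
  have hred := C.act_red t2
  rw [hπt2] at hred
  obtain ⟨hs0, hs1, hs2⟩ := S0_cols
  have hall := second_all
  simp only [List.all_eq_true] at hall
  have hOK := hall _ (liftV_complete _ (B (1, 0, 0)) ((red_eq_iff _ _).1 (by rw [hB, hred, hs0])))
    _ (liftV_complete _ (B (0, 1, 0)) ((red_eq_iff _ _).1 (by rw [hB, hred, hs1])))
    _ (liftV_complete _ (B (0, 0, 1)) ((red_eq_iff _ _).1 (by rw [hB, hred, hs2])))
  simp only [secondOK, ← hBapp, hBB, hBC, BEq.rfl, Bool.and_self, Bool.not_true, Bool.false_or,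
    List.all_eq_true, List.mem_range] at hOK
  have hfacts : ∀ v, (inD v = true → inN (B v - v) = true) ∧
      (tC v = -v → B v = -v → inN v = true ∨ inN (v + (0, 1, 3) + tC (B (0, 1, 3))) = true) := by
    intro v
    obtain ⟨n, hn, hv⟩ := (by decide +kernel : ∀ v : V4, ∃ k < 64,
      ((((k % 4 : ℕ) : ZMod 4), ((k / 4 % 4 : ℕ) : ZMod 4), ((k / 16 : ℕ) : ZMod 4)) : V4) = v) v
    have h := hOK n hn
    rw [hv] at h
    simp only [Bool.and_eq_true, Bool.or_eq_true, Bool.not_eq_true', beq_iff_eq] at h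
    constructor
    · intro hd
      rcases h.1 with h' | h'
      · rw [hd] at h'; exact absurd h' (by decide)
      · exact h'
    · intro e1 e2
      rcases h.2 with (h' | h') | h'
      · simp [e1, e2] at h'
      · exact Or.inl h'
      · exact Or.inr h'
  obtain ⟨hCD, hCN, hy0⟩ := tC_facts
  -- the second choice of the first involution
  obtain ⟨t'', w', ht''2, hwe', hw'N, hCt''⟩ : ∃ (t'' : G) (w' : V4), t'' * t'' = 1 ∧
      C.φ w' = t'' * t2 * (t'' * t2) ∧ inN w' = true ∧ ∀ v, C.act t'' v = tC v := by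
    rcases (hfacts w).2 hCw hBw with h | h
    · exact ⟨t', w, ht'2, hwe, h, hCt'⟩
    · refine ⟨C.φ (0, 1, 3) * t', _, ?_, ?_, h, fun v => ?_⟩
      · rw [hsqφ, hCt', hy0, C.map_zero, one_mul, ht'2]
      · have hy : tC (B (0, 1, 3)) = C.act (t' * t2) (0, 1, 3) := by
          rw [C.act_mul, AddMonoidHom.comp_apply, hCt']
        rw [hy, mul_assoc (C.φ (0, 1, 3)) t' t2, hsqφ, add_assoc, add_comm w, C.map_add _ w, hwe]
      · rw [C.act_mul, AddMonoidHom.comp_apply, C.act_mem (C.mem _), hCt']; rfl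
  have ht''i : t''⁻¹ = t'' := inv_eq_of_mul_eq_one_right ht''2
  -- the subgroups
  let D : Subgroup G :=
    { carrier := {g | ∃ v, inD v = true ∧ C.φ v = g}
      one_mem' := ⟨0, by decide, C.map_zero⟩
      mul_mem' := by
        rintro a b ⟨u, hu, rfl⟩ ⟨v, hv, rfl⟩
        exact ⟨u + v, (by decide +kernel : ∀ u v : V4, inD u = true → inD v = true → inD (u + v) = true) u v hu hv,
          C.map_add u v⟩
      inv_mem' := by
        rintro a ⟨u, hu, rfl⟩
        exact ⟨-u, (by decide +kernel : ∀ u : V4, inD u = true → inD (-u) = true) u hu, C.map_neg u⟩ }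
  let N : Subgroup G :=
    { carrier := {g | ∃ v, inN v = true ∧ C.φ v = g}
      one_mem' := ⟨0, by decide, C.map_zero⟩
      mul_mem' := by
        rintro a b ⟨u, hu, rfl⟩ ⟨v, hv, rfl⟩
        exact ⟨u + v, (by decide +kernel : ∀ u v : V4, inN u = true → inN v = true → inN (u + v) = true) u v hu hv,
          C.map_add u v⟩
      inv_mem' := by
        rintro a ⟨u, hu, rfl⟩
        exact ⟨-u, (by decide +kernel : ∀ u : V4, inN u = true → inN (-u) = true) u hu, C.map_neg u⟩ }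
  have hND : ∀ n ∈ N, n ∈ D := by
    rintro _ ⟨v, hv, rfl⟩
    exact ⟨v, (by decide +kernel : ∀ v : V4, inN v = true → inD v = true) v hv, rfl⟩
  have hact_D : ∀ (s : G), (∀ v, inD v = true → inN (C.act s v - v) = true) →
      (∀ d ∈ D, s * d * s⁻¹ ∈ D) ∧ (∀ n ∈ N, s * n * s⁻¹ ∈ N) ∧ ∀ d ∈ D, d⁻¹ * (s * d * s⁻¹) ∈ N := by
    intro s hs
    refine ⟨?_, ?_, ?_⟩
    · rintro _ ⟨v, hv, rfl⟩
      exact ⟨C.act s v, (by decide +kernel : ∀ u v : V4, inN (u - v) = true → inD v = true → inD u = true)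
        _ _ (hs v hv) hv, (C.act_spec s v).symm⟩
    · rintro _ ⟨v, hv, rfl⟩
      exact ⟨C.act s v, (by decide +kernel : ∀ u v : V4, inN (u - v) = true → inN v = true → inN u = true)
        _ _ (hs v ((by decide +kernel : ∀ v : V4, inN v = true → inD v = true) v hv)) hv, (C.act_spec s v).symm⟩
    · rintro _ ⟨v, hv, rfl⟩
      refine ⟨C.act s v - v, hs v hv, ?_⟩
      rw [C.act_spec, ← C.map_neg, ← C.map_add, sub_eq_neg_add]
  obtain ⟨h2D, h2N, h2c⟩ := hact_D t2 fun v => (hfacts v).1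
  obtain ⟨h1D, h1N, h1c⟩ := hact_D t'' fun v hv => by rw [hCt'']; exact hCD v hv
  have hinv : ∀ (W : Subgroup G) (s : G), s⁻¹ = s → (∀ x ∈ W, s * x * s⁻¹ ∈ W) →
      ∀ x ∈ W, s⁻¹ * x * s ∈ W := by
    intro W s hs h x hx
    have := h x hx
    rwa [hs] at this ⊢
  let W1 := extendTwo D t2 h2D (hinv D t2 ht2i h2D) (by rw [ht22]; exact one_mem D)
  have hDN : ∀ d ∈ D, d * d ∈ N := by
    rintro _ ⟨v, hv, rfl⟩
    exact ⟨v + v, (by decide +kernel : ∀ v : V4, inD v = true → inN (v + v) = true) v hv, C.map_add v v⟩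
  have hDc : ∀ d ∈ D, ∀ n ∈ N, d * n * d⁻¹ ∈ N := by
    rintro _ ⟨v, hv, rfl⟩ _ ⟨u, hu, rfl⟩
    refine ⟨u, hu, ?_⟩
    rw [← C.map_neg, ← C.map_add, ← C.map_add, show v + u + -v = u by abel]
  obtain ⟨hW1n, hW1sq⟩ := extendTwo_sq (W := D) (N := N) (t := t2) (hc := h2D) (hc' := hinv D t2 ht2i h2D)
    (ht := by rw [ht22]; exact one_mem D) h2N hDc hDN (by rw [ht22]; exact one_mem N) h2c
  have hwmem : t'' * t2 * (t'' * t2) ∈ N := ⟨w', hw'N, hwe'⟩
  have h1W : ∀ x ∈ W1, t'' * x * t''⁻¹ ∈ W1 := by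
    rintro x (hx | hx)
    · exact Or.inl (h1D x hx)
    · refine Or.inr ?_
      have e : t'' * x * t''⁻¹ * t2⁻¹ = (t'' * (x * t2⁻¹) * t''⁻¹) * (t'' * t2 * (t'' * t2)) := by
        rw [ht''i, ht2i]
        simp only [mul_assoc]
        rw [← mul_assoc t'' t'', ht''2, one_mul, ← mul_assoc t2 t2, ht22, one_mul]
      rw [e]
      exact D.mul_mem (h1D _ hx) (hND _ hwmem)
  have h1c' : ∀ x ∈ W1, x⁻¹ * (t'' * x * t''⁻¹) ∈ N := by
    rintro x (hx | hx)
    · exact h1c x hx
    · have e : x⁻¹ * (t'' * x * t''⁻¹) =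
          (t2⁻¹ * ((x * t2⁻¹)⁻¹ * (t'' * (x * t2⁻¹) * t''⁻¹)) * t2⁻¹⁻¹) *
            (t2⁻¹ * (t'' * t2 * t''⁻¹)) := by group
      rw [e]
      have ht2W : t2⁻¹ ∈ W1 := inv_mem (Or.inr (by rw [mul_inv_cancel]; exact one_mem D))
      refine N.mul_mem (hW1n _ ht2W _ (h1c _ hx)) ?_
      have e2 : t2⁻¹ * (t'' * t2 * t''⁻¹) = t2 * (t'' * t2 * (t'' * t2)) * t2⁻¹ := by
        rw [ht''i, ht2i]
        simp only [mul_assoc]
        rw [ht22, mul_one]
      rw [e2]
      exact h2N _ hwmem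
  let H := extendTwo W1 t'' h1W (hinv W1 t'' ht''i h1W) (by rw [ht''2]; exact one_mem W1)
  obtain ⟨hHn, hHsq⟩ := extendTwo_sq (W := W1) (N := N) (t := t'') (hc := h1W) (hc' := hinv W1 t'' ht''i h1W)
    (ht := by rw [ht''2]; exact one_mem W1) h1N hW1n hW1sq (by rw [ht''2]; exact one_mem N) h1c'
  -- the cardinalities
  have hcard : ∀ (P : V4 → Bool) (W : Subgroup G), (∀ g, g ∈ W ↔ ∃ v, P v = true ∧ C.φ v = g) →
      Nat.card W = Nat.card {v : V4 // P v = true} := by
    intro P W hW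
    refine (Nat.card_congr (Equiv.ofBijective
      (fun v => (⟨C.φ v.1, (hW _).2 ⟨v.1, v.2, rfl⟩⟩ : ↥W)) ⟨fun u v h => ?_, fun g => ?_⟩)).symm
    · exact Subtype.ext (C.inj (congrArg Subtype.val h))
    · obtain ⟨v, hv, hve⟩ := (hW g).1 g.2
      exact ⟨⟨v, hv⟩, Subtype.ext hve⟩
  have hπD : ∀ g ∈ D, π g = 1 := by
    rintro _ ⟨v, -, rfl⟩
    exact hπM v
  have ht2D : t2 ∉ D := fun h => (by decide : S0 ≠ (1 : SL32)) (hπt2.symm.trans (hπD _ h))
  have ht''W : t'' ∉ W1 := by
    have hπ'' : ∀ v, (π t'' : Matrix (Fin 3) (Fin 3) (ZMod 2)).mulVec (red v) = red (tC v) := fun v => by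
      rw [← C.act_red, hCt'']
    rintro (h | h)
    · have h1 := hπ'' (1, 0, 0)
      rw [hπD _ h, Matrix.SpecialLinearGroup.coe_one, Matrix.one_mulVec] at h1
      exact absurd h1 (by decide)
    · have h1 := hπ'' (0, 1, 0)
      have h2 : π t'' = S0 := by
        have h3 := hπD _ h
        rwa [map_mul, map_inv, mul_inv_eq_one, hπt2] at h3
      rw [h2] at h1
      exact absurd h1 (by decide)
  have hHle := hR H N (fun n hn => Or.inl (Or.inl (hND n hn))) hHn hHsq
  have hHcard : Nat.card H = 64 := by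
    rw [card_extendTwo ht''W, card_extendTwo ht2D, hcard inD D fun g => Iff.rfl, Nat.card_eq_fintype_card,
      show Fintype.card {v : V4 // inD v = true} = 16 by decide +kernel]
  have hNcard : Nat.card N = 2 := by
    rw [hcard inN N fun g => Iff.rfl, Nat.card_eq_fintype_card,
      show Fintype.card {v : V4 // inN v = true} = 2 by decide +kernel]
  rw [hHcard, hNcard] at hHle
  omega

end Coord

end CfsgLib.SmallRadical
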