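import Cfsg.Agent.SmallRadical.Act
import Cfsg.Agent.SmallRadical.Core
import Cfsg.Agent.Classical.Linear.Simple

/-! Small elementary abelian groups acted on by `L₃(2)`. -/

set_option autoImplicit false

namespace CfsgLib.SmallRadical

theorem sl32_simple : IsSimpleGroup SL32 := by
  haveI : Fact (Nat.Prime 2) := ⟨Nat.prime_two⟩
  have h2 : ∀ r : ZMod 2, r ^ 3 = 1 → r = 1 := by decide +revert
  have hc : Subgroup.center (Matrix.SpecialLinearGroup (Fin 3) (ZMod 2)) = ⊥ := by
    rw [Subgroup.eq_bot_iff_forall]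
    intro x hx
    obtain ⟨r, hr, hrx⟩ := Matrix.SpecialLinearGroup.mem_center_iff.mp hx
    apply Subtype.ext
    rw [← hrx, h2 r (by simpa using hr)]
    simp
  haveI : IsSimpleGroup (Matrix.ProjectiveSpecialLinearGroup (Fin 3) (ZMod 2)) :=
    CfsgLib.Classical.Linear.isSimpleGroup_psl_fin (by norm_num) (by norm_num)
  exact MulEquiv.isSimpleGroup (H := Matrix.ProjectiveSpecialLinearGroup (Fin 3) (ZMod 2))
    (QuotientGroup.quotientBot.symm.trans (QuotientGroup.quotientMulEquivOfEq hc.symm))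

theorem card_sl32 : Nat.card SL32 = 168 := by
  rw [Nat.card_eq_fintype_card]
  decide +kernel

/-- An element of order seven. -/
def D7 : SL32 := ⟨!![0, 0, 1; 1, 0, 1; 0, 1, 0], by decide⟩

theorem D7_pow : D7 ^ 7 = 1 := by decide +kernel

theorem D7_ne : D7 ≠ 1 := by decide

variable {G : Type*} [Group G]

/-- A homomorphism killing the kernel and a lift of `D7` is trivial. -/
theorem hom_eq_one₃ {M : Type*} [Group M] {π : G →* SL32} (hπ : Function.Surjective π) (φ : G →* M)
    (hφ : π.ker ≤ φ.ker) {d : G} (hd : π d = D7) (h : φ d = 1) : φ = 1 := by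
  haveI := sl32_simple
  have hn : (φ.ker.map π).Normal := (MonoidHom.normal_ker φ).map π hπ
  rcases hn.eq_bot_or_eq_top with hb | ht
  · exact absurd (Subgroup.mem_bot.1 (hb ▸ ⟨d, h, hd⟩ : D7 ∈ (⊥ : Subgroup SL32))) D7_ne
  · ext g
    obtain ⟨k, hk, hkg⟩ := (ht ▸ Subgroup.mem_top (π g) : π g ∈ φ.ker.map π)
    have : k⁻¹ * g ∈ φ.ker := hφ (by rw [MonoidHom.mem_ker, map_mul, map_inv, hkg, inv_mul_cancel])
    have hg : g ∈ φ.ker := by simpa using mul_mem hk this
    exact hg

/-- An automorphism of order seven of an elementary abelian group of order at most sixteen. -/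
theorem seven_fixed {W : Type*} [Group W] [Finite W] (h2 : ∀ w : W, w * w = 1) (h16 : Nat.card W ≤ 16)
    {σ : MulAut W} (h7 : σ ^ 7 = 1) (hne : σ ≠ 1) :
    (Nat.card W = 8 ∧ Nat.card (fixed σ) = 1) ∨ (Nat.card W = 16 ∧ Nat.card (fixed σ) = 2) := by
  haveI : Fact (Nat.Prime 7) := ⟨by norm_num⟩
  haveI : Fact (Nat.Prime 2) := ⟨Nat.prime_two⟩
  obtain ⟨n, hn⟩ := card_pow_two_of_exp_two h2
  obtain ⟨m, -, hmf⟩ := (Nat.dvd_prime_pow Nat.prime_two).1 (hn ▸ (fixed σ).card_subgroup_dvd_card)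
  have hperm : (MulEquiv.toEquiv σ : Equiv.Perm W) ^ 7 = 1 := by
    have := congrArg (MulAut.toPerm W) h7
    rwa [map_pow, map_one] at this
  have hmod := modEq_fix _ 7 hperm
  have hfix : Nat.card {a // MulEquiv.toEquiv σ a = a} = 2 ^ m := hmf ▸ rfl
  rw [hn, hfix] at hmod
  have hlt : Nat.card (fixed σ) < Nat.card W := by
    refine lt_of_le_of_ne (Subgroup.card_le_card_group _) fun h => hne ?_
    have := Subgroup.eq_top_of_card_eq _ h
    ext w
    exact mem_fixed.1 (this ▸ Subgroup.mem_top w : w ∈ fixed σ)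
  rw [hmf, hn] at hlt
  have hn4 : n ≤ 4 := by
    rw [hn] at h16
    exact (Nat.pow_le_pow_iff_right (le_refl 2)).1 (by simpa using h16)
  have hmn : m < n := (Nat.pow_lt_pow_iff_right (le_refl 2)).1 hlt
  have hres : (n = 3 ∧ m = 0) ∨ (n = 4 ∧ m = 1) := by
    rw [Nat.ModEq] at hmod
    interval_cases n <;> interval_cases m <;> simp_all
  rcases hres with ⟨rfl, rfl⟩ | ⟨rfl, rfl⟩
  · exact Or.inl ⟨by rw [hn]; norm_num, by rw [hmf]; norm_num⟩
  · exact Or.inr ⟨by rw [hn]; norm_num, by rw [hmf]; norm_num⟩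

section Eight

variable [Finite G] {π : G →* SL32} {α : Type*} [Finite α]

/-- On at most eight points, if an involution fixes a point then so does the whole group fix the point
fixed by an element of order seven, provided the latter is unique. -/
theorem eight (hπ : Function.Surjective π) (φ : G →* Equiv.Perm α) (hker : π.ker ≤ φ.ker)
    (hcard : Nat.card α ≤ 8) {d t : G} (hd : π d = D7) {x₀ : α}
    (huniq : ∀ x, φ d x = x ↔ x = x₀) (ht : π t ≠ 1) (ht2 : π t * π t = 1) {y : α} (hy : φ t y = y) :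
    ∀ g, φ g x₀ = x₀ := by
  haveI : Fact (Nat.Prime 7) := ⟨by norm_num⟩
  letI : MulAction G α := MulAction.compHom α φ
  have hsmul : ∀ (g : G) (x : α), g • x = φ g x := fun g x => rfl
  -- the element of order seven on the orbit
  have hd7 : φ d ^ 7 = 1 := by
    rw [← map_pow]
    exact hker (by rw [MonoidHom.mem_ker, map_pow, hd, D7_pow])
  let O := MulAction.orbit G x₀
  have hOd : ∀ x, φ d x ∈ O ↔ x ∈ O := fun x => by
    rw [← hsmul]
    constructor
    · intro h
      have := MulAction.mem_orbit_of_mem_orbit d⁻¹ h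
      rwa [inv_smul_smul] at this
    · exact MulAction.mem_orbit_of_mem_orbit d
  have hmod := modEq_one_of_invariant (φ d) 7 hd7 (fun x => x ∈ O) hOd (a₀ := x₀)
    (MulAction.mem_orbit_self x₀) ((huniq x₀).2 rfl) (fun x hx => (huniq x).1 hx)
  have hOle : Nat.card O ≤ 8 := (Finite.card_subtype_le _).trans hcard
  haveI : Nonempty O := ⟨⟨x₀, MulAction.mem_orbit_self x₀⟩⟩
  have hOpos : 0 < Nat.card O := Nat.card_pos
  change Nat.card O ≡ 1 [MOD 7] at hmod
  rw [Nat.ModEq] at hmod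
  have hO : Nat.card O = 1 ∨ Nat.card O = 8 := by omega
  rcases hO with hO | hO
  · intro g
    obtain ⟨⟨z, hz⟩, hz'⟩ := Nat.card_eq_one_iff_exists.1 hO
    have h1 := congrArg Subtype.val (hz' ⟨g • x₀, MulAction.mem_orbit x₀ g⟩)
    have h2 := congrArg Subtype.val (hz' ⟨x₀, MulAction.mem_orbit_self x₀⟩)
    exact h1.trans h2.symm
  exfalso
  have hall : ∀ x : α, x ∈ O := by
    have : O = Set.univ := Set.eq_of_subset_of_ncard_le (Set.subset_univ _)
      (by rw [Set.ncard_univ, ← Nat.card_coe_set_eq, hO]; exact hcard) Set.finite_univ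
    exact fun x => this ▸ Set.mem_univ x
  obtain ⟨g, hg⟩ := hall y
  let S := MulAction.stabilizer G x₀
  have hQS : π.ker ≤ S := fun q hq => by
    rw [MulAction.mem_stabilizer_iff, hsmul, MonoidHom.mem_ker.1 (hker hq)]; rfl
  have hidx : (S.map π).index = 8 := by
    rw [S.index_map_eq hπ hQS, MulAction.index_stabilizer, ← Nat.card_coe_set_eq]
    exact hO
  have hcardS : Nat.card (S.map π) = 21 := by
    have := (S.map π).card_mul_index
    rw [hidx, card_sl32] at this
    omega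
  have hmem : π (g⁻¹ * t * g) ∈ S.map π := by
    refine ⟨_, ?_, rfl⟩
    show (g⁻¹ * t * g) • x₀ = x₀
    rw [mul_smul, mul_smul, show g • x₀ = y from hg, show t • y = y from hy, ← hg, inv_smul_smul]
  have hord : orderOf (π (g⁻¹ * t * g)) = 2 := by
    rw [map_mul, map_mul, map_inv]
    refine orderOf_eq_prime ?_ ?_
    · rw [pow_two]
      calc (π g)⁻¹ * π t * π g * ((π g)⁻¹ * π t * π g) = (π g)⁻¹ * (π t * π t) * π g := by group
        _ = 1 := by rw [ht2]; group
    · intro h
      apply ht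
      calc π t = π g * ((π g)⁻¹ * π t * π g) * (π g)⁻¹ := by group
        _ = 1 := by rw [h]; group
  have h21 := Subgroup.orderOf_dvd_natCard (S.map π) hmem
  rw [hord, hcardS] at h21
  omega

end Eight

section Frame8

variable {W : Type*} [Group W]

/-- Coordinates on an elementary abelian group of order eight. -/
theorem exists_coord [Finite W] (h2 : ∀ w : W, w * w = 1) (h8 : Nat.card W = 8) :
    ∃ e : W ≃ (Fin 3 → ZMod 2), ∀ a b, e (a * b) = e a + e b := by
  classical
  haveI := Fintype.ofFinite W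
  have hc := comm_of_exp_two h2
  have hu : Fintype.card W = 8 := by rw [← Nat.card_eq_fintype_card, h8]
  obtain ⟨a, -, ha⟩ := Finset.exists_mem_notMem_of_card_lt_card (s := ({1} : Finset W)) (t := Finset.univ)
    (by rw [Finset.card_univ, hu]; simp)
  obtain ⟨b, -, hb⟩ := Finset.exists_mem_notMem_of_card_lt_card (s := ({1, a} : Finset W)) (t := Finset.univ)
    (by rw [Finset.card_univ, hu]; exact Finset.card_le_two.trans_lt (by norm_num))
  obtain ⟨c, -, hcc⟩ := Finset.exists_mem_notMem_of_card_lt_card (s := ({1, a, b, a * b} : Finset W))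
    (t := Finset.univ) (by rw [Finset.card_univ, hu]; exact Finset.card_le_four.trans_lt (by norm_num))
  simp only [Finset.mem_insert, Finset.mem_singleton, not_or] at ha hb hcc
  have hp : ∀ (w : W) (i j : ZMod 2), w ^ (i + j).val = w ^ i.val * w ^ j.val := by
    intro w i j
    rw [← pow_add, pow_eq_pow_iff_modEq]
    have hd : orderOf w ∣ 2 := orderOf_dvd_of_pow_eq_one (by rw [pow_two, h2])
    refine Nat.ModEq.of_dvd hd ?_
    rw [ZMod.val_add]
    exact Nat.mod_modEq _ _
  let f : (Fin 3 → ZMod 2) → W := fun x => a ^ (x 0).val * b ^ (x 1).val * c ^ (x 2).val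
  have hadd : ∀ x y, f (x + y) = f x * f y := by
    intro x y
    simp only [f, Pi.add_apply, hp]
    generalize a ^ (x 0).val = a1
    generalize a ^ (y 0).val = a2
    generalize b ^ (x 1).val = b1
    generalize b ^ (y 1).val = b2
    generalize c ^ (x 2).val = c1
    generalize c ^ (y 2).val = c2
    letI : CommGroup W := { (inferInstance : Group W) with mul_comm := hc }
    simp only [mul_comm, mul_assoc, mul_left_comm]
  have hinj : Function.Injective f := by
    intro x y hxy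
    have h0 : f (x + y) = 1 := by rw [hadd, hxy, h2]
    have hall : ∀ z : Fin 3 → ZMod 2, f z = 1 → z = 0 := by
      intro z hz
      by_contra hne
      rcases (by decide : ∀ z : Fin 3 → ZMod 2, z ≠ 0 → z = ![1, 0, 0] ∨ z = ![0, 1, 0] ∨ z = ![1, 1, 0] ∨
        z = ![0, 0, 1] ∨ z = ![1, 0, 1] ∨ z = ![0, 1, 1] ∨ z = ![1, 1, 1]) z hne with
        rfl | rfl | rfl | rfl | rfl | rfl | rfl <;>
        simp [f, ZMod.val_one] at hz
      · exact ha hz
      · exact hb.1 hz
      · exact hb.2 ((eq_inv_of_mul_eq_one_right hz).trans (inv_eq_of_mul_eq_one_right (h2 a)))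
      · exact hcc.1 hz
      · exact hcc.2.1 ((eq_inv_of_mul_eq_one_right hz).trans (inv_eq_of_mul_eq_one_right (h2 a)))
      · exact hcc.2.2.1 ((eq_inv_of_mul_eq_one_right hz).trans (inv_eq_of_mul_eq_one_right (h2 b)))
      · exact hcc.2.2.2 ((eq_inv_of_mul_eq_one_right hz).trans (inv_eq_of_mul_eq_one_right (h2 _)))
    exact (by decide : ∀ x y : Fin 3 → ZMod 2, x + y = 0 → x = y) x y (hall _ h0)
  have hbij : Function.Bijective f := by
    rw [Fintype.bijective_iff_injective_and_card]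
    exact ⟨hinj, by rw [hu]; rfl⟩
  refine ⟨(Equiv.ofBijective f hbij).symm, fun u v => ?_⟩
  rw [Equiv.symm_apply_eq]
  show u * v = f _
  rw [hadd]
  exact congrArg₂ (· * ·) ((Equiv.ofBijective f hbij).apply_symm_apply u).symm
    ((Equiv.ofBijective f hbij).apply_symm_apply v).symm

end Frame8

/-- The homomorphism to `L₃(2)` given by a faithful action on an elementary abelian group of order
eight. -/
theorem exists_proj [Finite G] {π : G →* SL32} (hπ : Function.Surjective π) {W : Type*} [Group W]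
    [Finite W] (h2 : ∀ w : W, w * w = 1) (h8 : Nat.card W = 8) (ψ : G →* MulAut W)
    (hker : π.ker ≤ ψ.ker) (hne : ψ ≠ 1) :
    ∃ (e : W ≃ (Fin 3 → ZMod 2)) (π' : G →* SL32), (∀ a b, e (a * b) = e a + e b) ∧
      Function.Surjective π' ∧ π'.ker = π.ker ∧
      ∀ g w, e (ψ g w) = (π' g : Matrix (Fin 3) (Fin 3) (ZMod 2)).mulVec (e w) := by
  obtain ⟨e, he⟩ := exists_coord h2 h8
  have hs : ∀ x y, e.symm (x + y) = e.symm x * e.symm y := fun x y => by
    rw [Equiv.symm_apply_eq, he, e.apply_symm_apply, e.apply_symm_apply]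
  let L : G → ((Fin 3 → ZMod 2) →+ (Fin 3 → ZMod 2)) := fun g =>
    AddMonoidHom.mk' (fun x => e (ψ g (e.symm x))) fun x y => by rw [hs, _root_.map_mul, he]
  let M : G → Matrix (Fin 3) (Fin 3) (ZMod 2) := fun g => Matrix.of fun i j => L g (Pi.single j 1) i
  have hM : ∀ g x, (M g).mulVec x = e (ψ g (e.symm x)) := by
    intro g x
    show _ = L g x
    have hx : x = (x 0).val • (Pi.single 0 1 : Fin 3 → ZMod 2) + (x 1).val • (Pi.single 1 1 : Fin 3 → ZMod 2) +
        (x 2).val • (Pi.single 2 1 : Fin 3 → ZMod 2) :=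
      (by decide : ∀ x : Fin 3 → ZMod 2, x = (x 0).val • (Pi.single 0 1 : Fin 3 → ZMod 2) +
        (x 1).val • (Pi.single 1 1 : Fin 3 → ZMod 2) + (x 2).val • (Pi.single 2 1 : Fin 3 → ZMod 2)) x
    conv_rhs => rw [hx, map_add, map_add, map_nsmul, map_nsmul, map_nsmul]
    funext i
    simp only [M, Matrix.mulVec, dotProduct, Fin.sum_univ_three, Matrix.of_apply, Pi.add_apply,
      nsmul_eq_mul, Pi.mul_apply, Pi.natCast_apply, ZMod.natCast_zmod_val]
    ring
  have hMmul : ∀ g h, M (g * h) = M g * M h := fun g h => by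
    refine Matrix.ext_iff_mulVec.2 fun x => ?_
    rw [← Matrix.mulVec_mulVec, hM, hM, hM, _root_.map_mul, MulAut.mul_apply, e.symm_apply_apply]
  have hM1 : M 1 = 1 := by
    refine Matrix.ext_iff_mulVec.2 fun x => ?_
    rw [hM, map_one, MulAut.one_apply, e.apply_symm_apply, Matrix.one_mulVec]
  have hdet : ∀ g, (M g).det = 1 := by
    intro g
    have h1 : (M g).det * (M g⁻¹).det = 1 := by
      rw [← Matrix.det_mul, ← hMmul, mul_inv_cancel, hM1, Matrix.det_one]
    exact (by decide : ∀ a b : ZMod 2, a * b = 1 → a = 1) _ _ h1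
  let π' : G →* SL32 := MonoidHom.mk' (fun g => ⟨M g, hdet g⟩) fun g h => Subtype.ext (hMmul g h)
  have hπ' : ∀ g w, e (ψ g w) = (π' g : Matrix (Fin 3) (Fin 3) (ZMod 2)).mulVec (e w) := fun g w => by
    show _ = (M g).mulVec (e w)
    rw [hM, e.symm_apply_apply]
  have hker' : π'.ker = π.ker := by
    obtain ⟨d, hd⟩ := hπ D7
    have hk : ψ.ker = π'.ker := by
      ext g
      rw [MonoidHom.mem_ker, MonoidHom.mem_ker]
      constructor
      · intro hg
        refine Subtype.ext (Matrix.ext_iff_mulVec.2 fun x => ?_)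
        rw [← e.apply_symm_apply x, ← hπ' g, hg]
        simp
      · intro hg
        refine MulEquiv.ext fun w => e.injective ?_
        rw [hπ', hg]
        simp
    rw [← hk]
    refine le_antisymm (fun g hg => ?_) hker
    haveI := sl32_simple
    have hn : (ψ.ker.map π).Normal := (MonoidHom.normal_ker ψ).map π hπ
    rcases hn.eq_bot_or_eq_top with hb | ht
    · exact Subgroup.mem_bot.1 (hb ▸ ⟨g, hg, rfl⟩ : π g ∈ (⊥ : Subgroup SL32))
    · obtain ⟨k, hk', hkd⟩ := (ht ▸ Subgroup.mem_top D7 : D7 ∈ ψ.ker.map π)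
      exact absurd (hom_eq_one₃ hπ ψ hker hkd hk') hne
  refine ⟨e, π', he, ?_, hker', hπ'⟩
  rw [← MonoidHom.range_eq_top]
  apply Subgroup.eq_top_of_card_eq
  rw [← Subgroup.index_ker, hker', Subgroup.index_ker, MonoidHom.range_eq_top.2 hπ, Subgroup.card_top]

set_option synthInstance.maxSize 2000 in
set_option synthInstance.maxHeartbeats 200000 in
/-- For two distinct nonzero vectors there is a transvection fixing exactly their span. -/
theorem exists_fix_span (a b : Fin 3 → ZMod 2) (ha : a ≠ 0) (hb : b ≠ 0) (hab : a ≠ b) : ∃ g : SL32,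
    ∀ v, (g : Matrix (Fin 3) (Fin 3) (ZMod 2)).mulVec v = v ↔ v = 0 ∨ v = a ∨ v = b ∨ v = a + b := by
  let μ : Fin 3 → ZMod 2 :=
    ![a 1 * b 2 + a 2 * b 1, a 2 * b 0 + a 0 * b 2, a 0 * b 1 + a 1 * b 0]
  let g : Matrix (Fin 3) (Fin 3) (ZMod 2) := Matrix.of fun i j => (if i = j then 1 else 0) + a i * μ j
  have hdet : g.det = 1 := by
    have h : ∀ a0 a1 a2 b0 b1 b2 : ZMod 2, (1 + a0 * (a1 * b2 + a2 * b1)) *
        ((1 + a1 * (a2 * b0 + a0 * b2)) * (1 + a2 * (a0 * b1 + a1 * b0)) -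
          a1 * (a0 * b1 + a1 * b0) * (a2 * (a2 * b0 + a0 * b2))) -
        a0 * (a2 * b0 + a0 * b2) * (a1 * (a1 * b2 + a2 * b1) * (1 + a2 * (a0 * b1 + a1 * b0)) -
          a1 * (a0 * b1 + a1 * b0) * (a2 * (a1 * b2 + a2 * b1))) +
        a0 * (a0 * b1 + a1 * b0) * (a1 * (a1 * b2 + a2 * b1) * (a2 * (a2 * b0 + a0 * b2)) -
          (1 + a1 * (a2 * b0 + a0 * b2)) * (a2 * (a1 * b2 + a2 * b1))) = 1 := by decide +kernel
    rw [Matrix.det_fin_three, ← h (a 0) (a 1) (a 2) (b 0) (b 1) (b 2)]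
    simp [g, μ]
    ring
  refine ⟨⟨g, hdet⟩, fun v => ?_⟩
  have h0 : g.mulVec v = v + (μ 0 * v 0 + μ 1 * v 1 + μ 2 * v 2) • a := by
    funext i
    fin_cases i <;> simp [g, Matrix.mulVec, dotProduct, Fin.sum_univ_three] <;> ring
  show g.mulVec v = v ↔ _
  rw [h0, add_eq_left, smul_eq_zero]
  simp only [ha, or_false]
  refine ⟨fun h => ?_, fun h => ?_⟩
  · exact (by decide +kernel : ∀ a b v : Fin 3 → ZMod 2, a ≠ 0 → b ≠ 0 → a ≠ b →
      (a 1 * b 2 + a 2 * b 1) * v 0 + (a 2 * b 0 + a 0 * b 2) * v 1 + (a 0 * b 1 + a 1 * b 0) * v 2 = 0 →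
        v = 0 ∨ v = a ∨ v = b ∨ v = a + b) a b v ha hb hab h
  · exact (by decide +kernel : ∀ a b v : Fin 3 → ZMod 2, (v = 0 ∨ v = a ∨ v = b ∨ v = a + b) →
      (a 1 * b 2 + a 2 * b 1) * v 0 + (a 2 * b 0 + a 0 * b 2) * v 1 + (a 0 * b 1 + a 1 * b 0) * v 2 = 0)
      a b v h

end CfsgLib.SmallRadical
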