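import Mathlib

/-! Involutions and elements of order five acting on elementary abelian groups of order at most sixteen. -/

set_option autoImplicit false

namespace CfsgLib.SmallRadical

theorem modEq_fix {α : Type*} [Finite α] (f : Equiv.Perm α) (p : ℕ) [Fact p.Prime] (hf : f ^ p = 1) :
    Nat.card α ≡ Nat.card {a // f a = a} [MOD p] := by
  classical
  haveI := Fintype.ofFinite α
  have h : (show Function.End α from ⇑f) ^ p ^ 1 = 1 := by
    rw [pow_one]
    have := congrArg (fun g : Equiv.Perm α => ⇑g) hf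
    simp only [Equiv.Perm.coe_one, Equiv.Perm.coe_pow] at this
    exact (hom_coe_pow (fun g : Function.End α => g) rfl (fun _ _ => rfl) _ p).trans this
  have h2 := Equiv.Perm.card_fixedPoints_modEq h
  rw [← Nat.card_eq_fintype_card, ← Nat.card_eq_fintype_card] at h2
  exact h2

/-- Counting modulo `p` inside an invariant predicate with a single fixed point. -/
theorem modEq_one_of_invariant {α : Type*} [Finite α] (f : Equiv.Perm α) (p : ℕ) [Fact p.Prime]
    (hf : f ^ p = 1) (P : α → Prop) (hP : ∀ a, P (f a) ↔ P a) {a₀ : α} (h₀ : P a₀) (hf₀ : f a₀ = a₀)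
    (huniq : ∀ a, f a = a → a = a₀) : Nat.card {a // P a} ≡ 1 [MOD p] := by
  have h := modEq_fix (f.subtypePerm (p := P) hP) p (by
    ext a
    rw [Equiv.Perm.subtypePerm_pow]
    simp [hf])
  have h1 : Nat.card {a : {a // P a} // f.subtypePerm hP a = a} = 1 := by
    rw [Nat.card_eq_one_iff_exists]
    refine ⟨⟨⟨a₀, h₀⟩, Subtype.ext hf₀⟩, fun b => ?_⟩
    exact Subtype.ext (Subtype.ext (huniq _ (congrArg Subtype.val b.2)))
  rwa [h1] at h

variable {W : Type*} [Group W]

theorem comm_of_exp_two (h2 : ∀ w : W, w * w = 1) (a b : W) : a * b = b * a := by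
  have ea := inv_eq_of_mul_eq_one_right (h2 a)
  have eb := inv_eq_of_mul_eq_one_right (h2 b)
  have eab := inv_eq_of_mul_eq_one_right (h2 (a * b))
  rw [mul_inv_rev, ea, eb] at eab
  exact eab.symm

theorem card_pow_two_of_exp_two [Finite W] (h2 : ∀ w : W, w * w = 1) :
    ∃ n, Nat.card W = 2 ^ n := by
  haveI : Fact (Nat.Prime 2) := ⟨Nat.prime_two⟩
  exact IsPGroup.iff_card.1 fun w => ⟨1, by rw [pow_one, pow_two]; exact h2 w⟩

/-- The fixed points of an automorphism. -/
def fixed (σ : MulAut W) : Subgroup W := MonoidHom.eqLocus σ.toMonoidHom (MonoidHom.id W)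

theorem mem_fixed {σ : MulAut W} {w : W} : w ∈ fixed σ ↔ σ w = w := Iff.rfl

/-- An automorphism of order five of an elementary abelian group of order at most sixteen is fixed
point free, and the order is sixteen. -/
theorem five_fpf [Finite W] (h2 : ∀ w : W, w * w = 1) (h16 : Nat.card W ≤ 16) {σ : MulAut W}
    (h5 : σ ^ 5 = 1) (hne : σ ≠ 1) : Nat.card W = 16 ∧ ∀ w, σ w = w → w = 1 := by
  haveI : Fact (Nat.Prime 5) := ⟨by norm_num⟩
  haveI : Fact (Nat.Prime 2) := ⟨Nat.prime_two⟩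
  obtain ⟨n, hn⟩ := card_pow_two_of_exp_two h2
  obtain ⟨m, -, hmf⟩ := (Nat.dvd_prime_pow Nat.prime_two).1 (hn ▸ (fixed σ).card_subgroup_dvd_card)
  have hperm : (MulEquiv.toEquiv σ : Equiv.Perm W) ^ 5 = 1 := by
    have := congrArg (MulAut.toPerm W) h5
    rwa [map_pow, map_one] at this
  have hmod := modEq_fix _ 5 hperm
  have hfix : Nat.card {a // MulEquiv.toEquiv σ a = a} = 2 ^ m := hmf ▸ rfl
  rw [hn, hfix] at hmod
  have hlt : Nat.card (fixed σ) < Nat.card W := by
    refine lt_of_le_of_ne (Subgroup.card_le_card_group _) fun h => hne ?_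
    have := Subgroup.eq_top_of_card_eq _ h
    ext w
    exact mem_fixed.1 (this ▸ Subgroup.mem_top w : w ∈ fixed σ)
  rw [hmf, hn] at hlt
  have hn4 : n ≤ 4 := by
    rw [hn] at h16
    exact (Nat.pow_le_pow_iff_right (le_refl 2)).1 (by simpa using h16)
  have hmn : m < n := (Nat.pow_lt_pow_iff_right (le_refl 2)).1 hlt
  have hres : n = 4 ∧ m = 0 := by
    rw [Nat.ModEq] at hmod
    interval_cases n <;> interval_cases m <;> simp_all
  refine ⟨by rw [hn, hres.1]; norm_num, fun w hw => ?_⟩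
  rw [hres.2, pow_zero, Subgroup.card_eq_one] at hmf
  exact (Subgroup.mem_bot).1 (hmf ▸ mem_fixed.2 hw)

/-- A dihedral group of order ten acting faithfully on at most sixteen points. -/
theorem involution_fixed [Finite W] (h2 : ∀ w : W, w * w = 1) (h16 : Nat.card W ≤ 16) {σ τ : MulAut W}
    (h5 : σ ^ 5 = 1) (hne : σ ≠ 1) (hτ : τ * τ = 1) (hinv : τ * σ * τ = σ⁻¹) :
    Nat.card (fixed τ) = 4 ∧ ∀ w, τ w = w → ∃ v, v * τ v = w := by
  obtain ⟨hW, hfpf⟩ := five_fpf h2 h16 h5 hne
  have hτ' : (τ * σ) * (τ * σ) = 1 := by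
    rw [← mul_assoc (τ * σ) τ σ, hinv, inv_mul_cancel]
  -- the norm map of an involution
  have key : ∀ ρ : MulAut W, ρ * ρ = 1 →
      Nat.card W ≤ Nat.card (fixed ρ) * Nat.card (fixed ρ) ∧
      ∃ f : W →* W, (∀ v, f v = v * ρ v) ∧ f.range ≤ fixed ρ ∧
        Nat.card (fixed ρ) * Nat.card f.range = Nat.card W := by
    intro ρ hρ
    let f : W →* W := MonoidHom.mk' (fun v => v * ρ v) fun a b => by
      rw [map_mul, mul_assoc, mul_assoc, ← mul_assoc b, ← mul_assoc (ρ a),
        comm_of_exp_two h2 b (ρ a)]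
    have hker : f.ker = fixed ρ := by
      ext v
      rw [MonoidHom.mem_ker, mem_fixed, MonoidHom.mk'_apply, mul_eq_one_iff_inv_eq,
        inv_eq_of_mul_eq_one_right (h2 v)]
      exact eq_comm
    have hrange : f.range ≤ fixed ρ := by
      rintro _ ⟨v, rfl⟩
      rw [mem_fixed, MonoidHom.mk'_apply, map_mul, comm_of_exp_two h2]
      congr 1
      rw [← MulAut.mul_apply, hρ, MulAut.one_apply]
    have hcard : Nat.card (fixed ρ) * Nat.card f.range = Nat.card W := by
      rw [← hker, ← Subgroup.index_ker, Subgroup.card_mul_index]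
    exact ⟨hcard ▸ Nat.mul_le_mul_left _ (Subgroup.card_le_of_le hrange), f, fun v => rfl, hrange, hcard⟩
  obtain ⟨h1, f, hf, hfr, hfc⟩ := key τ hτ
  obtain ⟨h1', -⟩ := key (τ * σ) hτ'
  have hprod : Nat.card (fixed τ) * Nat.card (fixed (τ * σ)) ≤ Nat.card W := by
    rw [← Nat.card_prod]
    refine Nat.card_le_card_of_injective (fun p => (p.1 : W) * p.2) ?_
    rintro ⟨⟨a, ha⟩, ⟨b, hb⟩⟩ ⟨⟨c, hc⟩, ⟨d, hd⟩⟩ h
    simp only at h
    have hm : c⁻¹ * a = d * b⁻¹ := by
      rw [inv_mul_eq_iff_eq_mul, ← mul_assoc, eq_mul_inv_iff_mul_eq]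
      exact h
    have h3 : c⁻¹ * a ∈ fixed τ := mul_mem (inv_mem hc) ha
    have h4 : d * b⁻¹ ∈ fixed (τ * σ) := mul_mem hd (inv_mem hb)
    rw [← hm] at h4
    have h5 : c⁻¹ * a = 1 := by
      refine hfpf _ ?_
      rw [mem_fixed, MulAut.mul_apply] at h4
      exact τ.injective (h4.trans (mem_fixed.1 h3).symm)
    rw [h5] at hm
    rw [inv_mul_eq_one] at h5
    have h6 := mul_inv_eq_one.1 hm.symm
    subst h5; subst h6
    rfl
  rw [hW] at h1 h1' hprod hfc
  have hcτ : Nat.card (fixed τ) = 4 := by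
    have ha : 4 ≤ Nat.card (fixed τ) := by nlinarith
    have hb : 4 ≤ Nat.card (fixed (τ * σ)) := by nlinarith
    nlinarith
  refine ⟨hcτ, fun w hw => ?_⟩
  rw [hcτ] at hfc
  have : f.range = fixed τ := Subgroup.eq_of_le_of_card_ge hfr (by omega)
  obtain ⟨v, hv⟩ := (this ▸ mem_fixed.2 hw : w ∈ f.range)
  exact ⟨v, by rw [← hf, hv]⟩

/-- An element of order three has at least seven fixed points if it respects a partition into three
sets of five points. -/
theorem card_fix_three {α : Type*} [Finite α] (f : Equiv.Perm α) (hf : f ^ 3 = 1) (P : α → Prop)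
    (hP : ∀ a, P (f a) ↔ P a) (h5 : Nat.card {a // P a} = 5) :
    2 ≤ Nat.card {a // P a ∧ f a = a} := by
  haveI : Fact (Nat.Prime 3) := ⟨Nat.prime_three⟩
  have h := modEq_fix (f.subtypePerm (p := P) hP) 3 (by
    ext a
    rw [Equiv.Perm.subtypePerm_pow]
    simp [hf])
  rw [h5] at h
  have e : {a : {a // P a} // f.subtypePerm hP a = a} ≃ {a // P a ∧ f a = a} :=
    { toFun := fun a => ⟨a.1.1, a.1.2, congrArg Subtype.val a.2⟩
      invFun := fun a => ⟨⟨a.1, a.2.1⟩, Subtype.ext a.2.2⟩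
      left_inv := fun a => rfl
      right_inv := fun a => rfl }
  rw [Nat.card_congr e, Nat.ModEq] at h
  omega

end CfsgLib.SmallRadical
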