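import Mathlib
import Cfsg.Agent.SmallRadical.Act

/-! Quadratic forms on the group of order sixteen invariant under an element of order five. -/

set_option autoImplicit false

namespace CfsgLib.SmallRadical

variable {V : Type*} [Group V] [Finite V]

/-- An invariant subgroup is trivial or everything. -/
theorem invariant_bot_or_top (h2 : ∀ v : V, v * v = 1) (hV : Nat.card V = 16) {σ : MulAut V}
    (h5 : σ ^ 5 = 1) (hfpf : ∀ v, σ v = v → v = 1) (K : Subgroup V) (hK : ∀ v ∈ K, σ v ∈ K) :
    K = ⊥ ∨ K = ⊤ := by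
  haveI : Fact (Nat.Prime 5) := ⟨by norm_num⟩
  haveI : Fact (Nat.Prime 2) := ⟨Nat.prime_two⟩
  have hperm : (MulEquiv.toEquiv σ : Equiv.Perm V) ^ 5 = 1 := by
    have := congrArg (MulAut.toPerm V) h5
    rwa [map_pow, map_one] at this
  have hiff : ∀ v, σ v ∈ K ↔ v ∈ K := fun v => by
    refine ⟨fun h => ?_, hK v⟩
    have e : (σ ^ 4) (σ v) = v := by
      rw [← MulAut.mul_apply, ← pow_succ, h5, MulAut.one_apply]
    have hp : ∀ n, ∀ w ∈ K, (σ ^ n) w ∈ K := by
      intro n
      induction n with
      | zero => exact fun w hw => hw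
      | succ n ih =>
        intro w hw
        rw [pow_succ, MulAut.mul_apply]
        exact ih _ (hK w hw)
    exact e ▸ hp 4 _ h
  have h := modEq_one_of_invariant _ 5 hperm (fun v => v ∈ K) hiff (a₀ := 1) (one_mem K) (map_one σ) hfpf
  have hd : Nat.card K ∣ 2 ^ 4 := by
    have := K.card_subgroup_dvd_card
    rwa [hV] at this
  obtain ⟨m, hm, hmK⟩ := (Nat.dvd_prime_pow Nat.prime_two).1 hd
  change Nat.card K ≡ 1 [MOD 5] at h
  rw [hmK, Nat.ModEq] at h
  interval_cases m
  · exact Or.inl (Subgroup.card_eq_one.1 hmK)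
  · simp at h
  · simp at h
  · simp at h
  · exact Or.inr (Subgroup.eq_top_of_card_eq _ (by rw [hmK, hV]; norm_num))

/-- For a nonzero quadratic form invariant under a fixed point free element of order five, there are
five singular vectors, the nonsingular ones generate, and the radical is trivial. -/
theorem form_five (h2 : ∀ v : V, v * v = 1) (hV : Nat.card V = 16) {σ : MulAut V}
    (h5 : σ ^ 5 = 1) (hfpf : ∀ v, σ v = v → v = 1) (Z : V → Prop) (hZσ : ∀ v, Z (σ v) ↔ Z v)
    (hZ1 : Z 1)
    (hbil : ∀ u v w, ((Z (u * v * w) ↔ (Z (u * v) ↔ Z w)) ↔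
      ((Z (u * w) ↔ (Z u ↔ Z w)) ↔ (Z (v * w) ↔ (Z v ↔ Z w)))))
    (hne : ∃ v, ¬ Z v) :
    Nat.card {v // v ≠ 1 ∧ Z v} = 5 ∧ Subgroup.closure {v | ¬ Z v} = ⊤ ∧
      ∀ u, (∀ v, Z (u * v) ↔ (Z u ↔ Z v)) → u = 1 := by
  classical
  haveI := Fintype.ofFinite V
  haveI : Fact (Nat.Prime 5) := ⟨by norm_num⟩
  have hperm : (MulEquiv.toEquiv σ : Equiv.Perm V) ^ 5 = 1 := by
    have := congrArg (MulAut.toPerm V) h5
    rwa [map_pow, map_one] at this
  have hdich := invariant_bot_or_top h2 hV h5 hfpf
  have hcom := comm_of_exp_two h2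
  -- the nonsingular vectors generate
  have hgen : Subgroup.closure {v | ¬ Z v} = ⊤ := by
    refine (hdich _ ?_).resolve_left fun h => ?_
    · intro v hv
      have : Subgroup.closure {v | ¬ Z v} ≤ (Subgroup.closure {v | ¬ Z v}).comap σ.toMonoidHom := by
        rw [Subgroup.closure_le]
        intro w hw
        exact Subgroup.subset_closure (fun h => hw ((hZσ w).1 h))
      exact this hv
    · obtain ⟨v, hv⟩ := hne
      have := h ▸ (Subgroup.subset_closure hv : v ∈ Subgroup.closure {v | ¬ Z v})
      exact hv ((Subgroup.mem_bot.1 this).symm ▸ hZ1)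
  -- the radical
  let K : Subgroup V :=
    { carrier := {u | ∀ v, Z (u * v) ↔ (Z u ↔ Z v)}
      one_mem' := fun v => by simp [hZ1]
      mul_mem' := fun {a b} ha hb v => (hbil a b v).2 (iff_of_true (ha v) (hb v))
      inv_mem' := fun {a} ha => by rwa [inv_eq_of_mul_eq_one_right (h2 a)] }
  have hKσ : ∀ u ∈ K, σ u ∈ K := by
    intro u hu v
    obtain ⟨w, rfl⟩ := σ.surjective v
    rw [← map_mul, hZσ, hZσ, hZσ]
    exact hu w
  have hrad : ∀ u, (∀ v, Z (u * v) ↔ (Z u ↔ Z v)) → u = 1 := by
    rcases hdich K hKσ with h | h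
    · exact fun u hu => Subgroup.mem_bot.1 (h ▸ (hu : u ∈ K))
    · exfalso
      have hlin : ∀ u v, Z (u * v) ↔ (Z u ↔ Z v) := fun u => (h ▸ Subgroup.mem_top u : u ∈ K)
      let L : Subgroup V :=
        { carrier := {u | Z u}
          one_mem' := hZ1
          mul_mem' := fun {a b} ha hb => (hlin a b).2 (iff_of_true ha hb)
          inv_mem' := fun {a} ha => by rwa [inv_eq_of_mul_eq_one_right (h2 a)] }
      obtain ⟨v, hv⟩ := hne
      rcases hdich L (fun u hu => (hZσ u).2 hu) with h' | h'
      · -- an index two subgroup cannot be trivial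
        have hv1 : v ≠ 1 := fun h1 => hv (h1 ▸ hZ1)
        have : ∀ w : V, w = 1 ∨ w = v := by
          intro w
          by_cases hw : Z w
          · exact Or.inl (Subgroup.mem_bot.1 (h' ▸ (hw : w ∈ L)))
          · refine Or.inr ?_
            have h1 : w * v ∈ L := (hlin w v).2 (iff_of_false hw hv)
            rw [h', Subgroup.mem_bot, mul_eq_one_iff_eq_inv, inv_eq_of_mul_eq_one_right (h2 v)] at h1
            exact h1
        have hle : Nat.card V ≤ 2 := by
          rw [Nat.card_eq_fintype_card, ← Finset.card_univ]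
          refine (Finset.card_le_card (t := ({1, v} : Finset V)) fun w _ => ?_).trans Finset.card_le_two
          rcases this w with rfl | rfl <;> simp
        omega
      · exact hv (h' ▸ Subgroup.mem_top v : v ∈ L)
  refine ⟨?_, hgen, hrad⟩
  -- a singular vector
  obtain ⟨w, hw1, hwZ⟩ : ∃ w, w ≠ 1 ∧ Z w := by
    by_contra hcon
    simp only [not_exists, not_and] at hcon
    obtain ⟨a, ha⟩ : ∃ a : V, a ≠ 1 := by
      by_contra h
      simp only [not_exists, not_not] at h
      haveI : Subsingleton V := ⟨fun a b => by rw [h a, h b]⟩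
      rw [Nat.card_of_subsingleton (1 : V)] at hV
      omega
    obtain ⟨b, -, hb⟩ := Finset.exists_mem_notMem_of_card_lt_card
      (s := ({1, a} : Finset V)) (t := (Finset.univ : Finset V)) (by
        rw [Finset.card_univ, ← Nat.card_eq_fintype_card, hV]
        exact Finset.card_le_two.trans_lt (by norm_num))
    obtain ⟨e, -, he⟩ := Finset.exists_mem_notMem_of_card_lt_card
      (s := ({1, a, b, a * b} : Finset V)) (t := (Finset.univ : Finset V)) (by
        rw [Finset.card_univ, ← Nat.card_eq_fintype_card, hV]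
        exact Finset.card_le_four.trans_lt (by norm_num))
    simp only [Finset.mem_insert, Finset.mem_singleton, not_or] at hb he
    have hba : b * e * a ≠ 1 := fun h => he.2.2.2 (by
      rw [← inv_eq_of_mul_eq_one_right (h2 (a * b)), eq_inv_iff_mul_eq_one, ← h, hcom b e,
        hcom a b, mul_assoc e b a])
    have hbe : b * e ≠ 1 := fun h => he.2.2.1 (by
      rw [eq_inv_of_mul_eq_one_right h, inv_eq_of_mul_eq_one_right (h2 b)])
    have hba' : b * a ≠ 1 := fun h => hb.2 (by
      rw [eq_inv_of_mul_eq_one_left h, inv_eq_of_mul_eq_one_right (h2 a)])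
    have hea : e * a ≠ 1 := fun h => he.2.1 (by
      rw [eq_inv_of_mul_eq_one_left h, inv_eq_of_mul_eq_one_right (h2 a)])
    have key := hbil b e a
    have n1 := hcon _ hba
    have n2 := hcon _ hbe
    have n3 := hcon _ hba'
    have n4 := hcon _ hea
    have na := hcon _ ha
    have nb := hcon _ hb.1
    have ne := hcon _ he.1
    tauto
  -- the vectors orthogonal to `w`
  let O : Subgroup V :=
    { carrier := {u | Z (u * w) ↔ (Z u ↔ Z w)}
      one_mem' := by simp [hZ1]
      mul_mem' := fun {a b} ha hb => (hbil a b w).2 (iff_of_true ha hb)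
      inv_mem' := fun {a} ha => by rwa [inv_eq_of_mul_eq_one_right (h2 a)] }
  have hO2 : O.index = 2 := by
    obtain ⟨x, hx⟩ : ∃ x, x ∉ O := by
      by_contra h
      simp only [not_exists, not_not] at h
      refine hw1 (hrad w fun v => ?_)
      have := h v
      change Z (v * w) ↔ (Z v ↔ Z w) at this
      rw [hcom w v]
      tauto
    refine Subgroup.index_eq_two_iff.2 ⟨x, fun b => ?_⟩
    by_cases hb : b ∈ O
    · exact Or.inr ⟨hb, fun h => hx ((O.mul_mem_cancel_left hb).1 h)⟩
    · refine Or.inl ⟨?_, hb⟩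
      exact (hbil b x w).2 (iff_of_false hb hx)
  have hOcard : Nat.card O = 8 := by
    have := O.card_mul_index
    rw [hO2, hV] at this
    omega
  have hwO : w ∈ O := by
    show Z (w * w) ↔ (Z w ↔ Z w)
    simp [h2, hZ1]
  have hww : ∀ v, v * w * w = v := fun v => by rw [mul_assoc, h2, mul_one]
  -- inside the orthogonal the singular vectors pair off
  set A : Finset V := Finset.univ.filter fun v => Z v ∧ v ∈ O with hA
  set B : Finset V := Finset.univ.filter fun v => Z v ∧ v ∉ O with hB
  set B' : Finset V := Finset.univ.filter fun v => ¬ Z v ∧ v ∉ O with hB'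
  have hAeven : (A.card : ZMod 2) = 0 := by
    rw [Finset.card_eq_sum_ones, Nat.cast_sum, Nat.cast_one]
    refine Finset.sum_involution (fun v _ => v * w) (fun v _ => by decide) (fun v _ _ h => hw1 ?_)
      (fun v hv => ?_) (fun v _ => hww v)
    · exact mul_eq_left.1 h
    · rw [hA, Finset.mem_filter] at hv ⊢
      refine ⟨Finset.mem_univ _, ?_, O.mul_mem hv.2.2 hwO⟩
      have h1 : Z (v * w) ↔ (Z v ↔ Z w) := hv.2.2
      tauto
  have hflip : ∀ v, v ∉ O → (Z (v * w) ↔ ¬ Z v) := fun v hv => by
    have h1 : ¬ (Z (v * w) ↔ (Z v ↔ Z w)) := hv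
    tauto
  have hout : ∀ v, v ∉ O → v * w ∉ O := fun v hv h => hv ((O.mul_mem_cancel_right hwO).1 h)
  have hBB : B.card = B'.card := by
    refine Finset.card_bij' (fun v _ => v * w) (fun v _ => v * w) (fun v hv => ?_) (fun v hv => ?_)
      (fun v _ => hww v) (fun v _ => hww v)
    · rw [hB, Finset.mem_filter] at hv
      rw [hB', Finset.mem_filter]
      exact ⟨Finset.mem_univ _, fun h => ((hflip v hv.2.2).1 h) hv.2.1, hout v hv.2.2⟩
    · rw [hB', Finset.mem_filter] at hv
      rw [hB, Finset.mem_filter]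
      exact ⟨Finset.mem_univ _, (hflip v hv.2.2).2 hv.2.1, hout v hv.2.2⟩
  have hB4 : B.card + B'.card = 8 := by
    rw [← Finset.card_union_of_disjoint (by
      rw [Finset.disjoint_left]
      intro v hv hv'
      rw [hB, Finset.mem_filter] at hv
      rw [hB', Finset.mem_filter] at hv'
      exact hv'.2.1 hv.2.1)]
    have he : B ∪ B' = Finset.univ \ Finset.univ.filter (fun v => v ∈ O) := by
      ext v
      simp only [hB, hB', Finset.mem_union, Finset.mem_filter, Finset.mem_univ, true_and,
        Finset.mem_sdiff]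
      tauto
    rw [he, Finset.card_sdiff_of_subset (Finset.subset_univ _), Finset.card_univ,
      ← Nat.card_eq_fintype_card, hV, ← Fintype.card_subtype, ← Nat.card_eq_fintype_card]
    change 16 - Nat.card O = 8
    rw [hOcard]
  have htot : Nat.card {v // Z v} = A.card + B.card := by
    rw [Nat.card_eq_fintype_card, Fintype.card_subtype, hA, hB,
      ← Finset.card_union_of_disjoint (by
        rw [Finset.disjoint_left]
        intro v hv hv'
        rw [Finset.mem_filter] at hv hv'
        exact hv'.2.2 hv.2.2)]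
    congr 1
    ext v
    simp only [Finset.mem_union, Finset.mem_filter, Finset.mem_univ, true_and]
    tauto
  have hmod := modEq_one_of_invariant _ 5 hperm Z hZσ (a₀ := 1) hZ1 (map_one σ) hfpf
  have hlt : Nat.card {v // Z v} < 16 := by
    rw [← hV]
    obtain ⟨v, hv⟩ := hne
    rw [Nat.card_eq_fintype_card, Nat.card_eq_fintype_card]
    exact Fintype.card_subtype_lt hv
  have hsub : Nat.card {v // Z v} = Nat.card {v // v ≠ 1 ∧ Z v} + 1 := by
    rw [Nat.card_eq_fintype_card, Fintype.card_subtype, Nat.card_eq_fintype_card, Fintype.card_subtype]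
    have h1 : Finset.univ.filter (fun v => v ≠ 1 ∧ Z v) = (Finset.univ.filter fun v => Z v).erase 1 := by
      ext v
      simp [and_comm]
    rw [h1, Finset.card_erase_add_one (by simp [hZ1])]
  have hA2 : 2 ∣ A.card := (ZMod.natCast_eq_zero_iff _ 2).1 hAeven
  rw [htot] at hsub hmod hlt
  rw [Nat.ModEq] at hmod
  have : B.card = 4 := by omega
  obtain ⟨k, hk⟩ := hA2
  omega

end CfsgLib.SmallRadical
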