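import Cfsg.Prelude.Def_CaseTheorems
import Cfsg.Agent.SmallRadical.Form

/-! The situation where the Frattini part is central elementary abelian in the radical, with
quotient the alternating group of degree five. -/

set_option autoImplicit false

namespace CfsgLib.SmallRadical

/-- The alternating group of degree five. -/
abbrev A5 : Type := ↥(alternatingGroup (Fin 5))

/-- A 3-cycle. -/
def h₀ : A5 := ⟨Equiv.swap 0 1 * Equiv.swap 1 2, Equiv.Perm.mem_alternatingGroup.2 (by decide)⟩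

/-- Another 3-cycle. -/
def h₁ : A5 := ⟨Equiv.swap 2 3 * Equiv.swap 3 4, Equiv.Perm.mem_alternatingGroup.2 (by decide)⟩

/-- An involution inverting `h₀ * h₁`. -/
def t₀ : A5 := ⟨Equiv.swap 1 4 * Equiv.swap 2 3, Equiv.Perm.mem_alternatingGroup.2 (by decide)⟩

theorem h₀_pow : h₀ ^ 3 = 1 := by decide

theorem h₁_pow : h₁ ^ 3 = 1 := by decide

theorem d₀_pow : (h₀ * h₁) ^ 5 = 1 := by decide

theorem d₀_ne : h₀ * h₁ ≠ 1 := by decide

theorem t₀_sq : t₀ * t₀ = 1 := by decide

theorem t₀_ne : t₀ ≠ 1 := by decide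

theorem t₀_inv : t₀ * (h₀ * h₁) * t₀ * (h₀ * h₁) = 1 := by decide

theorem polar_iff (A Za Zb Ze K K' : Prop) :
    ((((A ↔ (K ↔ K')) ↔ Ze) ↔ (A ↔ Ze)) ↔
      ((((Za ↔ K) ↔ Ze) ↔ (Za ↔ Ze)) ↔ (((Zb ↔ K') ↔ Ze) ↔ (Zb ↔ Ze)))) := by
  by_cases A <;> by_cases Za <;> by_cases Zb <;> by_cases Ze <;> by_cases K <;> by_cases K' <;> simp [*]

/-- Every exponent two quotient of a subgroup has order at most sixteen. -/
def RankFour (G : Type*) [Group G] : Prop :=
  ∀ H N : Subgroup G, N ≤ H → (∀ h ∈ H, ∀ n ∈ N, h * n * h⁻¹ ∈ N) → (∀ h ∈ H, h * h ∈ N) →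
    Nat.card H ≤ 16 * Nat.card N

theorem rankFour_of_sectional {G : Type*} [Group G] (h4 : Cfsg.SectionalPRankLE 2 4 G) :
    RankFour G := by
  intro H N hle hn hsq
  haveI : (N.subgroupOf H).Normal := ⟨fun n hn' g => hn g g.2 n hn'⟩
  have hq : ∀ q : ↥H ⧸ N.subgroupOf H, q * q = 1 := by
    intro q
    obtain ⟨a, rfl⟩ := QuotientGroup.mk_surjective q
    rw [← QuotientGroup.mk_mul, QuotientGroup.eq_one_iff]
    exact hsq a a.2
  have h := h4 H (N.subgroupOf H) ⊤ ⟨⟨fun a b => comm_of_exp_two (fun c => Subtype.ext (hq c)) a b⟩⟩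
    (fun a _ => by rw [pow_two]; exact hq a)
  rw [Subgroup.card_top] at h
  have h2 := (N.subgroupOf H).card_mul_index
  rw [Nat.card_congr (Subgroup.subgroupOfEquivOfLe hle).toEquiv] at h2
  rw [← h2, mul_comm (Nat.card N)]
  exact Nat.mul_le_mul_right _ (h.trans_eq (by norm_num))

theorem RankFour.quotient {G : Type*} [Group G] [Finite G] (h : RankFour G) (R : Subgroup G)
    [R.Normal] : RankFour (G ⧸ R) := by
  intro H N hle hn hsq
  have hcard : ∀ K : Subgroup (G ⧸ R),
      Nat.card (K.comap (QuotientGroup.mk' R)) = Nat.card R * Nat.card K := fun K => by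
    have h1 := (K.comap (QuotientGroup.mk' R)).card_mul_index
    rw [Subgroup.index_comap_of_surjective _ (QuotientGroup.mk'_surjective R)] at h1
    have h2 := R.card_mul_index
    have h3 : R.index = Nat.card (G ⧸ R) := rfl
    rw [h3, ← K.card_mul_index, ← mul_assoc] at h2
    exact Nat.eq_of_mul_eq_mul_right (Nat.pos_of_ne_zero K.index_ne_zero_of_finite) (h1.trans h2.symm)
  have h1 := h (H.comap (QuotientGroup.mk' R)) (N.comap (QuotientGroup.mk' R))
    (Subgroup.comap_mono hle)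
    (fun x hx n hn' => by
      rw [Subgroup.mem_comap, map_mul, map_mul, map_inv]
      exact hn _ hx _ hn')
    (fun x hx => by rw [Subgroup.mem_comap, map_mul]; exact hsq _ hx)
  rw [hcard, hcard, mul_left_comm 16] at h1
  exact Nat.le_of_mul_le_mul_left h1 Nat.card_pos

section Sec

variable {G : Type*} [Group G] (Q F : Subgroup G) [Q.Normal] [F.Normal]

theorem map_subgroupOf_conj (g : G) :
    (F.subgroupOf Q).map (MulAut.conjNormal g : MulAut ↥Q).toMonoidHom = F.subgroupOf Q := by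
  ext x
  rw [Subgroup.mem_map_equiv]
  rw [Subgroup.mem_subgroupOf, Subgroup.mem_subgroupOf, MulAut.conjNormal_symm_apply]
  refine ⟨fun h => ?_, fun h => ?_⟩
  · have := ‹F.Normal›.conj_mem _ h g
    simpa [mul_assoc] using this
  · simpa [mul_assoc] using ‹F.Normal›.conj_mem _ h g⁻¹

/-- The action on a normal section. -/
def secAut : G →* MulAut (↥Q ⧸ F.subgroupOf Q) where
  toFun g := QuotientGroup.congr _ _ (MulAut.conjNormal g) (map_subgroupOf_conj Q F g)
  map_one' := by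
    ext q
    obtain ⟨q, rfl⟩ := QuotientGroup.mk'_surjective _ q
    simp [QuotientGroup.congr_mk']
  map_mul' g k := by
    ext q
    obtain ⟨q, rfl⟩ := QuotientGroup.mk'_surjective _ q
    show (QuotientGroup.mk (MulAut.conjNormal (g * k) q) : ↥Q ⧸ F.subgroupOf Q) =
      QuotientGroup.mk (MulAut.conjNormal g (MulAut.conjNormal k q))
    rw [map_mul, MulAut.mul_apply]

theorem secAut_mk (g : G) (q : ↥Q) :
    secAut Q F g (q : ↥Q ⧸ F.subgroupOf Q) = ((MulAut.conjNormal g q : ↥Q) : ↥Q ⧸ F.subgroupOf Q) :=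
  rfl

theorem mk_eq_mk_iff (a b : ↥Q) :
    (a : ↥Q ⧸ F.subgroupOf Q) = (b : ↥Q ⧸ F.subgroupOf Q) ↔ (a : G)⁻¹ * b ∈ F := by
  rw [QuotientGroup.eq, Subgroup.mem_subgroupOf]
  simp

end Sec

variable {G : Type*} [Group G] {π : G →* A5} {F : Subgroup G}

/-- The standing hypotheses. -/
structure Ctx (π : G →* A5) (F : Subgroup G) : Prop where
  surj : Function.Surjective π
  le : F ≤ π.ker
  normal : F.Normal
  sq : ∀ q ∈ π.ker, q * q ∈ F
  cent : ∀ f ∈ F, ∀ q ∈ π.ker, f * q = q * f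
  exp : ∀ f ∈ F, f * f = 1
  rank : RankFour G
  act : ∃ g : G, ∃ q ∈ π.ker, g * q * g⁻¹ * q⁻¹ ∉ F
  gen : F ≤ Subgroup.closure ((fun q => q * q) '' (π.ker : Set G))

/-- A homomorphism killing the kernel and a lift of an element of order five is trivial. -/
theorem hom_eq_one {M : Type*} [Group M] (hπ : Function.Surjective π) (φ : G →* M)
    (hφ : π.ker ≤ φ.ker) {d : G} (hd : π d = h₀ * h₁) (h : φ d = 1) : φ = 1 := by
  have hn : (φ.ker.map π).Normal := (MonoidHom.normal_ker φ).map π hπ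
  rcases hn.eq_bot_or_eq_top with hb | ht
  · exact absurd (Subgroup.mem_bot.1 (hb ▸ ⟨d, h, hd⟩ : h₀ * h₁ ∈ (⊥ : Subgroup A5))) d₀_ne
  · ext g
    obtain ⟨k, hk, hkg⟩ := (ht ▸ Subgroup.mem_top (π g) : π g ∈ φ.ker.map π)
    have : k⁻¹ * g ∈ φ.ker := hφ (by rw [MonoidHom.mem_ker, map_mul, map_inv, hkg, inv_mul_cancel])
    have hg : g ∈ φ.ker := by simpa using mul_mem hk this
    exact hg

namespace Ctx

variable (c : Ctx π F)
include c

theorem act_data {W : Type*} [Group W] (φ : G →* MulAut W) (hφ : π.ker ≤ φ.ker) (hne : φ ≠ 1)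
    {d t : G} (hd : π d = h₀ * h₁) (ht : π t = t₀) :
    φ d ^ 5 = 1 ∧ φ d ≠ 1 ∧ φ t * φ t = 1 ∧ φ t * φ d * φ t = (φ d)⁻¹ := by
  refine ⟨?_, fun h => hne (hom_eq_one c.surj φ hφ hd h), ?_, ?_⟩
  · rw [← map_pow]
    exact hφ (by rw [MonoidHom.mem_ker, map_pow, hd, d₀_pow])
  · rw [← map_mul]
    exact hφ (by rw [MonoidHom.mem_ker, map_mul, ht, t₀_sq])
  · rw [eq_inv_iff_mul_eq_one, ← map_mul, ← map_mul, ← map_mul]
    exact hφ (by rw [MonoidHom.mem_ker, map_mul, map_mul, map_mul, hd, ht, t₀_inv])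

theorem sq_quot [F.Normal] (v : ↥π.ker ⧸ F.subgroupOf π.ker) : v * v = 1 := by
  obtain ⟨a, rfl⟩ := QuotientGroup.mk_surjective v
  rw [← QuotientGroup.mk_mul, QuotientGroup.eq_one_iff]
  exact c.sq a a.2

theorem card_quot [F.Normal] :
    Nat.card (↥π.ker ⧸ F.subgroupOf π.ker) * Nat.card F = Nat.card π.ker := by
  rw [← Nat.card_congr (Subgroup.subgroupOfEquivOfLe c.le).toEquiv, mul_comm]
  exact (F.subgroupOf π.ker).card_mul_index

theorem card_quot_le [Finite G] [F.Normal] : Nat.card (↥π.ker ⧸ F.subgroupOf π.ker) ≤ 16 := by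
  have h := c.rank π.ker F c.le (fun h _ n hn => ‹F.Normal›.conj_mem n hn h) c.sq
  rw [← c.card_quot] at h
  exact Nat.le_of_mul_le_mul_right h Nat.card_pos

theorem secAut_ker [F.Normal] : π.ker ≤ (secAut π.ker F).ker := by
  intro x hx
  rw [MonoidHom.mem_ker]
  ext v
  obtain ⟨a, rfl⟩ := QuotientGroup.mk_surjective v
  rw [secAut_mk, MulAut.one_apply]
  show ((MulAut.conjNormal x a : ↥π.ker) : ↥π.ker ⧸ F.subgroupOf π.ker) = a
  have : (MulAut.conjNormal x a : ↥π.ker) = ⟨x, hx⟩ * a * (⟨x, hx⟩ : ↥π.ker)⁻¹ := by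
    ext; simp
  rw [this, QuotientGroup.mk_mul, QuotientGroup.mk_mul, QuotientGroup.mk_inv,
    comm_of_exp_two c.sq_quot (((⟨x, hx⟩ : ↥π.ker)) : ↥π.ker ⧸ F.subgroupOf π.ker), mul_inv_cancel_right]

theorem secAut_ne_one [F.Normal] : secAut π.ker F ≠ 1 := by
  obtain ⟨g, q, hq, hgq⟩ := c.act
  intro h
  apply hgq
  have h1 : ((MulAut.conjNormal g ⟨q, hq⟩ : ↥π.ker) : ↥π.ker ⧸ F.subgroupOf π.ker) =
      ((⟨q, hq⟩ : ↥π.ker) : ↥π.ker ⧸ F.subgroupOf π.ker) := by
    rw [← secAut_mk, h]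
    rfl
  rw [eq_comm, mk_eq_mk_iff, MulAut.conjNormal_apply] at h1
  have h2 := ‹F.Normal›.conj_mem _ h1 q
  simpa [mul_assoc] using h2

set_option maxHeartbeats 800000 in
/-- The group `F` is central. -/
theorem F_central [Finite G] : ∀ g : G, ∀ f ∈ F, g * f = f * g := by
  haveI := c.normal
  let φ : G →* MulAut ↥F := MulAut.conjNormal
  by_cases hne : φ = 1
  · intro g f hf
    have h := congrArg (fun ψ : G →* MulAut ↥F => ((ψ g ⟨f, hf⟩ : ↥F) : G)) hne
    simp only [φ, MulAut.conjNormal_apply, MonoidHom.one_apply, MulAut.one_apply] at h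
    exact mul_inv_eq_iff_eq_mul.1 h
  exfalso
  obtain ⟨d, hd⟩ := c.surj (h₀ * h₁)
  obtain ⟨t, ht⟩ := c.surj t₀
  have hφk : π.ker ≤ φ.ker := by
    intro q hq
    rw [MonoidHom.mem_ker]
    ext f
    simp only [φ, MulAut.conjNormal_apply, MulAut.one_apply]
    rw [← c.cent f f.2 q hq, mul_inv_cancel_right]
  -- the action on the quotient
  let ψ := secAut π.ker F
  obtain ⟨hd5, hdne, htt, hti⟩ := c.act_data ψ c.secAut_ker c.secAut_ne_one hd ht
  obtain ⟨hcV, hVn⟩ := involution_fixed c.sq_quot c.card_quot_le hd5 hdne htt hti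
  obtain ⟨hV16, -⟩ := five_fpf c.sq_quot c.card_quot_le hd5 hdne
  -- a lift of the involution squaring into `F`
  have ht2 : t * t ∈ π.ker := by rw [MonoidHom.mem_ker, map_mul, ht, t₀_sq]
  obtain ⟨v, hv⟩ := hVn ((⟨t * t, ht2⟩ : ↥π.ker) : ↥π.ker ⧸ F.subgroupOf π.ker) (by
    rw [secAut_mk]
    congr 1
    ext
    simp [mul_assoc])
  obtain ⟨q, rfl⟩ := QuotientGroup.mk_surjective v
  set t' : G := (q : G) * t with ht'def
  have ht' : π t' = t₀ := by rw [ht'def, map_mul, MonoidHom.mem_ker.1 q.2, one_mul, ht]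
  have htF : t' * t' ∈ F := by
    have h1 : ((q * MulAut.conjNormal t q * ⟨t * t, ht2⟩ : ↥π.ker) : ↥π.ker ⧸ F.subgroupOf π.ker) = 1 := by
      rw [QuotientGroup.mk_mul, QuotientGroup.mk_mul]
      rw [← secAut_mk]
      rw [show secAut π.ker F t = ψ t from rfl, hv, c.sq_quot]
    rw [QuotientGroup.eq_one_iff, Subgroup.mem_subgroupOf] at h1
    simpa [ht'def, mul_assoc] using h1
  have ht'2 : t' ∉ π.ker := fun h => t₀_ne (ht'.symm.trans (MonoidHom.mem_ker.1 h))
  obtain ⟨-, -, -, -⟩ := c.act_data ψ c.secAut_ker c.secAut_ne_one hd ht'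
  obtain ⟨hd5', hdne', htt', hti'⟩ := c.act_data φ hφk hne hd ht'
  have hF2 : ∀ f : ↥F, f * f = 1 := fun f => Subtype.ext (c.exp f f.2)
  have hF16 : Nat.card F ≤ 16 := by
    have h := c.rank F ⊥ bot_le (fun h _ n hn => by rw [Subgroup.mem_bot.1 hn]; simp)
      (fun f hf => by rw [Subgroup.mem_bot]; exact c.exp f hf)
    simpa using h
  obtain ⟨hcF, -⟩ := involution_fixed hF2 hF16 hd5' hdne' htt' hti'
  obtain ⟨hF, -⟩ := five_fpf hF2 hF16 hd5' hdne'
  obtain ⟨hd5'', hdne'', htt'', hti''⟩ := c.act_data ψ c.secAut_ker c.secAut_ne_one hd ht'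
  obtain ⟨hcV', -⟩ := involution_fixed c.sq_quot c.card_quot_le hd5'' hdne'' htt'' hti''
  -- the two subgroups
  let K := (fixed (ψ t')).comap (QuotientGroup.mk' (F.subgroupOf π.ker))
  let W := K.map π.ker.subtype
  have hW : Nat.card W = 64 := by
    rw [Subgroup.card_map_of_injective π.ker.subtype_injective]
    have h1 := K.card_mul_index
    have h2 := (fixed (ψ t')).card_mul_index
    rw [Subgroup.index_comap_of_surjective _ (QuotientGroup.mk'_surjective _), ← c.card_quot, hV16,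
      hF] at h1
    rw [hcV', hV16] at h2
    have : (fixed (ψ t')).index = 4 := by omega
    rw [this] at h1
    omega
  have hWmem : ∀ x : G, x ∈ W ↔ x ∈ π.ker ∧ x⁻¹ * (t' * x * t'⁻¹) ∈ F := by
    intro x
    constructor
    · rintro ⟨a, ha, rfl⟩
      refine ⟨a.2, ?_⟩
      have h : secAut π.ker F t' (a : ↥π.ker ⧸ F.subgroupOf π.ker) = a := ha
      rw [secAut_mk, eq_comm, mk_eq_mk_iff, MulAut.conjNormal_apply] at h
      exact h
    · rintro ⟨hx, hxF⟩
      refine ⟨⟨x, hx⟩, ?_, rfl⟩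
      show secAut π.ker F t' ((⟨x, hx⟩ : ↥π.ker) : ↥π.ker ⧸ F.subgroupOf π.ker) = _
      rw [secAut_mk, eq_comm]
      refine (mk_eq_mk_iff _ _ _ _).2 ?_
      rw [MulAut.conjNormal_apply]
      exact hxF
  have hFW : F ≤ W := fun f hf => (hWmem f).2
    ⟨c.le hf, mul_mem (inv_mem hf) (‹F.Normal›.conj_mem f hf t')⟩
  have hconj : ∀ x ∈ W, t' * x * t'⁻¹ ∈ W := by
    intro x hx
    obtain ⟨hxQ, hxF⟩ := (hWmem x).1 hx
    have : t' * x * t'⁻¹ = x * (x⁻¹ * (t' * x * t'⁻¹)) := by group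
    rw [this]
    exact W.mul_mem hx (hFW hxF)
  have htW : t' * t' ∈ W := hFW htF
  have hconj' : ∀ x ∈ W, t'⁻¹ * x * t' ∈ W := by
    intro x hx
    have : t'⁻¹ * x * t' = (t' * t')⁻¹ * (t' * x * t'⁻¹) * (t' * t') := by group
    rw [this]
    exact W.mul_mem (W.mul_mem (W.inv_mem htW) (hconj x hx)) htW
  have hout : ∀ x ∈ W, x * t' ∉ W := fun x hx h => ht'2 (by
    have := ((hWmem _).1 (W.mul_mem (W.inv_mem hx) h)).1
    simpa using this)
  let H : Subgroup G :=
    { carrier := {g | g ∈ W ∨ g * t'⁻¹ ∈ W}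
      one_mem' := Or.inl W.one_mem
      mul_mem' := by
        rintro a b (ha | ha) (hb | hb)
        · exact Or.inl (W.mul_mem ha hb)
        · exact Or.inr (by rw [mul_assoc]; exact W.mul_mem ha hb)
        · refine Or.inr ?_
          have : a * b * t'⁻¹ = (a * t'⁻¹) * (t' * b * t'⁻¹) := by group
          rw [this]
          exact W.mul_mem ha (hconj b hb)
        · refine Or.inl ?_
          have : a * b = (a * t'⁻¹) * (t' * (b * t'⁻¹) * t'⁻¹) * (t' * t') := by group
          rw [this]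
          exact W.mul_mem (W.mul_mem ha (hconj _ hb)) htW
      inv_mem' := by
        rintro a (ha | ha)
        · exact Or.inl (W.inv_mem ha)
        · refine Or.inr ?_
          have : a⁻¹ * t'⁻¹ = t'⁻¹ * (a * t'⁻¹)⁻¹ * t' * (t' * t')⁻¹ := by group
          rw [this]
          exact W.mul_mem (hconj' _ (W.inv_mem ha)) (W.inv_mem htW) }
  let N := (fixed (φ t')).map F.subtype
  have hN : Nat.card N = 4 := by rw [Subgroup.card_map_of_injective F.subtype_injective, hcF]
  have hNmem : ∀ x : G, x ∈ N ↔ x ∈ F ∧ t' * x * t'⁻¹ = x := by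
    intro x
    constructor
    · rintro ⟨a, ha, rfl⟩
      exact ⟨a.2, congrArg Subtype.val (ha : φ t' a = a)⟩
    · rintro ⟨hx, hxe⟩
      exact ⟨⟨x, hx⟩, Subtype.ext hxe, rfl⟩
  have hsmall := c.rank H N (fun x hx => Or.inl (hFW ((hNmem x).1 hx).1)) ?_ ?_
  rotate_left
  · intro h hh n hn
    obtain ⟨hnF, hne'⟩ := (hNmem n).1 hn
    suffices h * n * h⁻¹ = n by rw [this]; exact hn
    rcases hh with hh | hh
    · rw [← c.cent n hnF h ((hWmem h).1 hh).1, mul_inv_cancel_right]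
    · have e : h * n * h⁻¹ = (h * t'⁻¹) * (t' * n * t'⁻¹) * (h * t'⁻¹)⁻¹ := by group
      rw [e, hne', ← c.cent n hnF _ ((hWmem _).1 hh).1, mul_inv_cancel_right]
  · have hx2 : ∀ x ∈ W, x * x ∈ N := by
      intro x hx
      obtain ⟨hxQ, hxF⟩ := (hWmem x).1 hx
      refine (hNmem _).2 ⟨c.sq x hxQ, ?_⟩
      have e : t' * (x * x) * t'⁻¹ = (t' * x * t'⁻¹) * (t' * x * t'⁻¹) := by group
      have e2 : t' * x * t'⁻¹ = x * (x⁻¹ * (t' * x * t'⁻¹)) := by group
      rw [e, e2]
      generalize hf : x⁻¹ * (t' * x * t'⁻¹) = f at hxF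
      rw [mul_assoc, ← mul_assoc f x, c.cent f hxF x hxQ, mul_assoc x f f, c.exp f hxF, mul_one]
    have htN : t' * t' ∈ N := (hNmem _).2 ⟨htF, by group⟩
    rintro h (hh | hh)
    · exact hx2 h hh
    · obtain ⟨hxQ, hxF⟩ := (hWmem _).1 hh
      set x := h * t'⁻¹ with hxdef
      have e : h * h = x * x * (x⁻¹ * (t' * x * t'⁻¹)) * (t' * t') := by rw [hxdef]; group
      rw [e]
      refine N.mul_mem (N.mul_mem (hx2 x hh) ((hNmem _).2 ⟨hxF, ?_⟩)) htN
      have hc := c.cent _ htF x hxQ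
      generalize hf : x⁻¹ * (t' * x * t'⁻¹) = f at hxF
      have h1 : t' * x * t'⁻¹ = x * f := by rw [← hf]; group
      have h2 : t' * (x * f) * t'⁻¹ = x := by
        rw [← h1]
        have : t' * (t' * x * t'⁻¹) * t'⁻¹ = t' * t' * x * (t' * t')⁻¹ := by group
        rw [this, hc, mul_inv_cancel_right]
      have h3 : x * f * (t' * f * t'⁻¹) = x := by
        rw [← h1]
        refine Eq.trans ?_ h2
        group
      have h4 : f * (t' * f * t'⁻¹) = 1 := by
        rw [mul_assoc] at h3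
        exact mul_eq_left.1 h3
      rw [eq_inv_of_mul_eq_one_right h4, inv_eq_of_mul_eq_one_right (c.exp f hxF)]
  have hbig : 2 * Nat.card W ≤ Nat.card H := by
    have htH : t' ∈ H := Or.inr (by rw [mul_inv_cancel]; exact W.one_mem)
    have hle : W ≤ H := fun x hx => Or.inl hx
    have hne : W.subgroupOf H ≠ ⊤ := fun h => hout 1 W.one_mem (by
      rw [one_mul]
      exact (h ▸ Subgroup.mem_top (⟨t', htH⟩ : H) : (⟨t', htH⟩ : H) ∈ W.subgroupOf H))
    have h1 := (W.subgroupOf H).card_mul_index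
    rw [Nat.card_congr (Subgroup.subgroupOfEquivOfLe hle).toEquiv] at h1
    have h2 : 2 ≤ (W.subgroupOf H).index := by
      have h3 : (W.subgroupOf H).index ≠ 1 := fun h => hne (Subgroup.index_eq_one.1 h)
      have h4 : (W.subgroupOf H).index ≠ 0 := Subgroup.index_ne_zero_of_finite
      omega
    rw [← h1, mul_comm]
    exact Nat.mul_le_mul_left _ h2
  rw [hN] at hsmall
  rw [hW] at hbig
  omega

set_option maxHeartbeats 2000000 in
/-- The conclusions. -/
theorem main [Finite G] [F.Normal] :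
    Nat.card F ≤ 2 ∧ Nat.card (↥π.ker ⧸ F.subgroupOf π.ker) = 16 ∧
    (F ≠ ⊥ → π.ker ≤ Subgroup.closure {q | q ∈ π.ker ∧ q * q ≠ 1} ∧
      (∀ z ∈ π.ker, (∀ q ∈ π.ker, z * q = q * z) → z ∈ F) ∧
      Nat.card {v : ↥π.ker ⧸ F.subgroupOf π.ker //
        v ≠ 1 ∧ ∀ a : ↥π.ker, (a : ↥π.ker ⧸ F.subgroupOf π.ker) = v → (a : G) * a = 1} = 5) := by
  classical
  obtain ⟨h, hh⟩ := c.surj h₀
  obtain ⟨h', hh'⟩ := c.surj h₁
  obtain ⟨t, ht⟩ := c.surj t₀
  have hd : π (h * h') = h₀ * h₁ := by rw [map_mul, hh, hh']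
  let ψ := secAut π.ker F
  obtain ⟨hd5, hdne, -, -⟩ := c.act_data ψ c.secAut_ker c.secAut_ne_one hd ht
  have h2 := c.sq_quot
  obtain ⟨hV16, hfpf⟩ := five_fpf h2 c.card_quot_le hd5 hdne
  have hcen := c.F_central
  -- the squaring map
  have hwd : ∀ a b : ↥π.ker, (a : G)⁻¹ * b ∈ F → (a : G) * a = (b : G) * b := by
    intro a b hab
    generalize hf : (a : G)⁻¹ * b = f at hab
    have hb : (b : G) = a * f := by rw [← hf]; group
    rw [hb, mul_assoc, ← mul_assoc f, c.cent f hab a a.2, mul_assoc (a : G) f f, c.exp f hab,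
      mul_one]
  obtain ⟨qv, hqv⟩ : ∃ qv : ↥π.ker ⧸ F.subgroupOf π.ker → G, ∀ a : ↥π.ker, qv a = (a : G) * a := by
    refine ⟨fun v => ((v.out : ↥π.ker) : G) * (v.out : ↥π.ker), fun a => hwd _ _ ?_⟩
    rw [← mk_eq_mk_iff]
    exact QuotientGroup.out_eq' _
  have hqF : ∀ v, qv v ∈ F := fun v => by
    obtain ⟨a, rfl⟩ := QuotientGroup.mk_surjective v
    rw [hqv]
    exact c.sq a a.2
  have hinv : ∀ g v, qv (ψ g v) = qv v := by
    intro g v
    obtain ⟨a, rfl⟩ := QuotientGroup.mk_surjective v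
    rw [secAut_mk, hqv, hqv, MulAut.conjNormal_apply]
    calc g * (a : G) * g⁻¹ * (g * a * g⁻¹) = g * ((a : G) * a) * g⁻¹ := by group
      _ = (a : G) * a := by rw [hcen g _ (c.sq a a.2), mul_inv_cancel_right]
  -- the polarisation
  let κ : G → G → G := fun x y => x⁻¹ * y * x * y⁻¹
  have hκ : ∀ a b : ↥π.ker, κ a b ∈ F := by
    intro a b
    have e : κ a b = ((a : G) * a)⁻¹ * (((a : G) * b) * ((a : G) * b)) * ((b : G) * b)⁻¹ := by
      simp only [κ]; group
    rw [e]
    exact F.mul_mem (F.mul_mem (F.inv_mem (c.sq a a.2)) (c.sq _ (mul_mem a.2 b.2))) (F.inv_mem (c.sq b b.2))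
  have hqmul : ∀ a b : ↥π.ker,
      qv ((a : ↥π.ker ⧸ F.subgroupOf π.ker) * b) = qv a * κ a b * qv b := by
    intro a b
    rw [← QuotientGroup.mk_mul, hqv, hqv, hqv]
    simp only [κ, Subgroup.coe_mul]
    group
  have hκmul : ∀ a b e : ↥π.ker, κ ((a : G) * b) e = κ a e * κ b e := by
    intro a b e
    have h1 : κ ((a : G) * b) e = (b : G)⁻¹ * κ a e * ((e : G) * b * (e : G)⁻¹) := by
      simp only [κ]; group
    rw [h1, ← c.cent _ (hκ a e) _ (inv_mem b.2)]
    simp only [κ]; group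
  -- singular vectors for an index two subgroup
  have five : ∀ M : Subgroup G, M ≤ F → (∀ a ∈ F, ∀ b ∈ F, (a * b ∈ M ↔ (a ∈ M ↔ b ∈ M))) →
      (∃ f ∈ F, f ∉ M) →
      Nat.card {v // v ≠ 1 ∧ qv v ∈ M} = 5 ∧ Subgroup.closure {v | ¬ qv v ∈ M} = ⊤ ∧
        ∀ u, (∀ v, qv (u * v) ∈ M ↔ (qv u ∈ M ↔ qv v ∈ M)) → u = 1 := by
    intro M hMF hM2 hMne
    refine form_five h2 hV16 hd5 hfpf (fun v => qv v ∈ M) (fun v => by rw [hinv]) ?_ ?_ ?_
    · rw [← QuotientGroup.mk_one, hqv]
      simp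
    · intro u v w
      obtain ⟨a, rfl⟩ := QuotientGroup.mk_surjective u
      obtain ⟨b, rfl⟩ := QuotientGroup.mk_surjective v
      obtain ⟨e, rfl⟩ := QuotientGroup.mk_surjective w
      rw [← QuotientGroup.mk_mul (F.subgroupOf π.ker) a b, hqmul (a * b) e, hqmul a e, hqmul b e,
        Subgroup.coe_mul, hκmul]
      have hq : ∀ x : ↥π.ker, qv x ∈ F := fun x => hqF _
      rw [hM2 _ (F.mul_mem (hq _) (F.mul_mem (hκ a e) (hκ b e))) _ (hq _),
        hM2 _ (hq _) _ (F.mul_mem (hκ a e) (hκ b e)), hM2 _ (hκ a e) _ (hκ b e),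
        hM2 _ (F.mul_mem (hq _) (hκ a e)) _ (hq _), hM2 _ (hq _) _ (hκ a e),
        hM2 _ (F.mul_mem (hq _) (hκ b e)) _ (hq _), hM2 _ (hq _) _ (hκ b e)]
      exact polar_iff _ _ _ _ _ _
    · by_contra hall
      simp only [not_exists, not_not] at hall
      obtain ⟨f, hf, hfM⟩ := hMne
      refine hfM ((c.gen.trans ?_) hf)
      rw [Subgroup.closure_le]
      rintro _ ⟨q, hq, rfl⟩
      have := hall ((⟨q, hq⟩ : ↥π.ker) : ↥π.ker ⧸ F.subgroupOf π.ker)
      rwa [hqv] at this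
  have hF2' : Nat.card F ≤ 2 := by
    by_contra hgt
    rw [not_le] at hgt
    haveI : Fact (Nat.Prime 2) := ⟨Nat.prime_two⟩
    have hFp : IsPGroup 2 F := fun f => ⟨1, by rw [pow_one, pow_two]; exact Subtype.ext (c.exp f f.2)⟩
    obtain ⟨n, hn⟩ := IsPGroup.iff_card.1 hFp
    have hn2 : 2 ≤ n := by
      by_contra hlt
      rw [not_le] at hlt
      interval_cases n <;> omega
    obtain ⟨M', hM'⟩ := Sylow.exists_subgroup_card_pow_prime (G := F) 2 (n := n - 2)
      (hn ▸ pow_dvd_pow 2 (by omega))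
    have hF2 : ∀ f : ↥F, f * f = 1 := fun f => Subtype.ext (c.exp f f.2)
    haveI : M'.Normal := ⟨fun m hm g => by rwa [comm_of_exp_two hF2 g m, mul_inv_cancel_right]⟩
    have hK : Nat.card (↥F ⧸ M') = 4 := by
      have h1 := M'.card_mul_index
      rw [hM', hn] at h1
      have e : 2 ^ n = 2 ^ (n - 2) * 4 := by
        rw [show (4 : ℕ) = 2 ^ 2 from rfl, ← pow_add, Nat.sub_add_cancel hn2]
      rw [e] at h1
      exact Nat.eq_of_mul_eq_mul_left (by positivity) h1
    have hK2 : ∀ x : ↥F ⧸ M', x * x = 1 := by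
      intro x
      obtain ⟨x, rfl⟩ := QuotientGroup.mk_surjective x
      rw [← QuotientGroup.mk_mul, hF2]; rfl
    haveI := Fintype.ofFinite (↥F ⧸ M')
    haveI := Fintype.ofFinite (↥π.ker ⧸ F.subgroupOf π.ker)
    let qb : ↥π.ker ⧸ F.subgroupOf π.ker → ↥F ⧸ M' := fun v => QuotientGroup.mk ⟨qv v, hqF v⟩
    -- the five vectors for every subgroup of order two
    have hS : ∀ k : ↥F ⧸ M', k ≠ 1 → Nat.card {v // v ≠ 1 ∧ (qb v = 1 ∨ qb v = k)} = 5 := by
      intro k hk
      have hzk : ∀ x, x ∈ Subgroup.zpowers k ↔ x = 1 ∨ x = k := by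
        intro x
        constructor
        · rintro ⟨m, rfl⟩
          rcases Int.even_or_odd m with ⟨j, rfl⟩ | ⟨j, rfl⟩
          · left
            show k ^ (j + j) = 1
            rw [← two_mul, zpow_mul, zpow_two, hK2, one_zpow]
          · right
            show k ^ (2 * j + 1) = k
            rw [zpow_add, zpow_one, zpow_mul, zpow_two, hK2, one_zpow, one_mul]
        · rintro (rfl | rfl)
          · exact one_mem _
          · exact Subgroup.mem_zpowers _
      have hidx : (Subgroup.zpowers k).index = 2 := by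
        have h1 := (Subgroup.zpowers k).card_mul_index
        have h3 : Nat.card (Subgroup.zpowers k) = 2 := by
          rw [Nat.card_zpowers, orderOf_eq_prime (by rw [pow_two, hK2]) hk]
        rw [h3, hK] at h1
        omega
      let M := ((Subgroup.zpowers k).comap (QuotientGroup.mk' M')).map F.subtype
      have hMm : ∀ f : ↥F, (f : G) ∈ M ↔ (QuotientGroup.mk f : ↥F ⧸ M') ∈ Subgroup.zpowers k := fun f =>
        Subgroup.mem_map_iff_mem F.subtype_injective
      obtain ⟨hc5, -, -⟩ := five M (Subgroup.map_subtype_le _) (fun a ha b hb => by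
          have := Subgroup.mul_mem_iff_of_index_two hidx
            (a := (QuotientGroup.mk ⟨a, ha⟩ : ↥F ⧸ M')) (b := QuotientGroup.mk ⟨b, hb⟩)
          rw [← QuotientGroup.mk_mul, ← hMm, ← hMm, ← hMm] at this
          exact this) (by
        obtain ⟨x, hx⟩ : ∃ x, x ∉ Subgroup.zpowers k := by
          by_contra hall
          simp only [not_exists, not_not] at hall
          rw [(Subgroup.eq_top_iff' _).2 hall, Subgroup.index_top] at hidx
          omega
        obtain ⟨x, rfl⟩ := QuotientGroup.mk_surjective x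
        exact ⟨x, x.2, fun h => hx ((hMm x).1 h)⟩)
      refine Eq.trans ?_ hc5
      refine Nat.card_congr (Equiv.subtypeEquivRight fun v => ?_)
      rw [← hzk, ← hMm]
    let cnt : ↥F ⧸ M' → ℕ := fun k => (Finset.univ.filter fun v => v ≠ 1 ∧ qb v = k).card
    have htot : ∑ k, cnt k = 15 := by
      have e : ∑ k, cnt k = (Finset.univ.filter fun v : ↥π.ker ⧸ F.subgroupOf π.ker => v ≠ 1).card := by
        rw [Finset.card_eq_sum_card_fiberwise (f := qb) (t := Finset.univ) (by simp)]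
        refine Finset.sum_congr rfl fun k _ => ?_
        simp only [cnt, Finset.filter_filter]
      rw [e, Finset.filter_ne', Finset.card_erase_of_mem (Finset.mem_univ _), Finset.card_univ,
        ← Nat.card_eq_fintype_card, hV16]
    have hpair : ∀ k, k ≠ 1 → cnt 1 + cnt k = 5 := by
      intro k hk
      rw [← hS k hk, Nat.card_eq_fintype_card, Fintype.card_subtype]
      simp only [cnt]
      rw [← Finset.card_union_of_disjoint (by
        rw [Finset.disjoint_left]
        intro v hv hv'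
        rw [Finset.mem_filter] at hv hv'
        exact hk (hv'.2.2.symm.trans hv.2.2))]
      congr 1
      ext v
      simp only [Finset.mem_union, Finset.mem_filter, Finset.mem_univ, true_and]
      tauto
    have hcnt : cnt 1 = 0 ∧ ∀ k, k ≠ 1 → cnt k = 5 := by
      have h1 : ∑ k ∈ (Finset.univ : Finset (↥F ⧸ M')).erase 1, (cnt 1 + cnt k) = 15 := by
        rw [Finset.sum_congr rfl fun k hk => hpair k (Finset.ne_of_mem_erase hk), Finset.sum_const,
          Finset.card_erase_of_mem (Finset.mem_univ _), Finset.card_univ, ← Nat.card_eq_fintype_card,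
          hK]
        rfl
      rw [Finset.sum_add_distrib, Finset.sum_const, Finset.card_erase_of_mem (Finset.mem_univ _),
        Finset.card_univ, ← Nat.card_eq_fintype_card, hK, smul_eq_mul] at h1
      rw [← Finset.add_sum_erase _ cnt (Finset.mem_univ 1)] at htot
      have h0 : cnt 1 = 0 := by omega
      exact ⟨h0, fun k hk => by have := hpair k hk; omega⟩
    -- elements of order three fix seven vectors
    have hfix : ∀ g : G, π g ^ 3 = 1 → 7 ≤ Nat.card (fixed (ψ g)) := by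
      intro g hg
      have hp : (MulEquiv.toEquiv (ψ g) : Equiv.Perm (↥π.ker ⧸ F.subgroupOf π.ker)) ^ 3 = 1 := by
        have h3 : ψ g ^ 3 = 1 := by
          rw [← map_pow]
          exact c.secAut_ker (by rw [MonoidHom.mem_ker, map_pow, hg])
        have := congrArg (MulAut.toPerm _) h3
        rwa [map_pow, map_one] at this
      have key : ∀ k, k ≠ 1 →
          2 ≤ (Finset.univ.filter fun v => (v ≠ 1 ∧ qb v = k) ∧ ψ g v = v).card := by
        intro k hk
        have := card_fix_three _ hp (fun v => v ≠ 1 ∧ qb v = k) (fun v => by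
          show (ψ g v ≠ 1 ∧ qb (ψ g v) = k) ↔ _
          rw [MulEquiv.map_ne_one_iff]
          simp only [qb, hinv]) (by
            rw [Nat.card_eq_fintype_card, Fintype.card_subtype]; exact hcnt.2 k hk)
        rwa [Nat.card_eq_fintype_card, Fintype.card_subtype] at this
      have hsum : ∑ k ∈ (Finset.univ : Finset (↥F ⧸ M')).erase 1,
          (Finset.univ.filter fun v => (v ≠ 1 ∧ qb v = k) ∧ ψ g v = v).card ≤
          ((Finset.univ.filter fun v => ψ g v = v).erase 1).card := by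
        rw [← Finset.card_biUnion (fun i _ j _ hij => by
          rw [Function.onFun, Finset.disjoint_left]
          intro v hv hv'
          rw [Finset.mem_filter] at hv hv'
          exact hij (hv.2.1.2.symm.trans hv'.2.1.2))]
        refine Finset.card_le_card fun v hv => ?_
        rw [Finset.mem_biUnion] at hv
        obtain ⟨k, -, hv⟩ := hv
        rw [Finset.mem_filter] at hv
        rw [Finset.mem_erase, Finset.mem_filter]
        exact ⟨hv.2.1.1, Finset.mem_univ _, hv.2.2⟩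
      have hlow : 6 ≤ ∑ k ∈ (Finset.univ : Finset (↥F ⧸ M')).erase 1,
          (Finset.univ.filter fun v => (v ≠ 1 ∧ qb v = k) ∧ ψ g v = v).card := by
        refine le_trans ?_ (Finset.card_nsmul_le_sum _ _ 2 fun k hk => key k (Finset.ne_of_mem_erase hk))
        rw [Finset.card_erase_of_mem (Finset.mem_univ _), Finset.card_univ, ← Nat.card_eq_fintype_card,
          hK, smul_eq_mul]
      have h1 : ((Finset.univ.filter fun v => ψ g v = v).erase 1).card + 1 = Nat.card (fixed (ψ g)) := by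
        rw [Finset.card_erase_add_one (by simp), ← Fintype.card_subtype, ← Nat.card_eq_fintype_card]
        rfl
      omega
    have h7 := hfix h (by rw [hh, h₀_pow])
    have h7' := hfix h' (by rw [hh', h₁_pow])
    have hprod : Nat.card (fixed (ψ h)) * Nat.card (fixed (ψ h')) ≤
        Nat.card (↥π.ker ⧸ F.subgroupOf π.ker) := by
      rw [← Nat.card_prod]
      refine Nat.card_le_card_of_injective (fun p => (p.1 : ↥π.ker ⧸ F.subgroupOf π.ker) * p.2) ?_
      rintro ⟨⟨a, ha⟩, ⟨b, hb⟩⟩ ⟨⟨e, he⟩, ⟨f, hf⟩⟩ heq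
      simp only at heq
      have hm : e⁻¹ * a = f * b⁻¹ := by
        rw [inv_mul_eq_iff_eq_mul, ← mul_assoc, eq_mul_inv_iff_mul_eq]
        exact heq
      have h3 : e⁻¹ * a ∈ fixed (ψ h) := mul_mem (inv_mem he) ha
      have h4 : f * b⁻¹ ∈ fixed (ψ h') := mul_mem hf (inv_mem hb)
      rw [← hm] at h4
      have h5 : e⁻¹ * a = 1 := hfpf _ (by
        rw [show ψ (h * h') = ψ h * ψ h' from map_mul ψ h h', MulAut.mul_apply, mem_fixed.1 h4,
          mem_fixed.1 h3])
      rw [h5] at hm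
      rw [inv_mul_eq_one] at h5
      have h6 := mul_inv_eq_one.1 hm.symm
      subst h5; subst h6
      rfl
    rw [hV16] at hprod
    have := Nat.mul_le_mul h7 h7'
    omega
  refine ⟨hF2', hV16, fun hFne => ?_⟩
  obtain ⟨hc5, hgen, hrad⟩ := five ⊥ bot_le (fun a ha b hb => by
      simp only [Subgroup.mem_bot]
      constructor
      · intro hab
        rw [eq_inv_of_mul_eq_one_left hab, inv_eq_one]
      · intro hab
        by_cases h1 : a = 1
        · rw [h1, hab.1 h1, one_mul]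
        · have hb1 : b ≠ 1 := fun h => h1 (hab.2 h)
          suffices a = b by rw [this]; exact c.exp b hb
          by_contra hne
          haveI := Fintype.ofFinite F
          have h3 : ({1, ⟨a, ha⟩, ⟨b, hb⟩} : Finset ↥F).card = 3 := by
            have e1 : (1 : ↥F) ≠ ⟨a, ha⟩ := fun h => h1 (congrArg Subtype.val h).symm
            have e2 : (1 : ↥F) ≠ ⟨b, hb⟩ := fun h => hb1 (congrArg Subtype.val h).symm
            have e3 : (⟨a, ha⟩ : ↥F) ≠ ⟨b, hb⟩ := fun h => hne (congrArg Subtype.val h)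
            simp [e1, e2, e3]
          have h4 := Finset.card_le_univ ({1, ⟨a, ha⟩, ⟨b, hb⟩} : Finset ↥F)
          rw [h3, ← Nat.card_eq_fintype_card] at h4
          omega) (by
    obtain ⟨f, hf, hf1⟩ := (Subgroup.bot_or_exists_ne_one F).resolve_left hFne
    exact ⟨f, hf, fun h => hf1 (Subgroup.mem_bot.1 h)⟩)
  simp only [Subgroup.mem_bot] at hc5 hgen hrad
  refine ⟨?_, fun z hz hzc => ?_, ?_⟩
  · intro q hq
    set C := Subgroup.closure {q | q ∈ π.ker ∧ q * q ≠ 1} with hC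
    have hFC : F ≤ C := c.gen.trans (by
      rw [Subgroup.closure_le]
      rintro _ ⟨x, hx, rfl⟩
      by_cases hxx : x * x = 1
      · simp only [SetLike.mem_coe, hxx]; exact C.one_mem
      · exact C.mul_mem (Subgroup.subset_closure ⟨hx, hxx⟩) (Subgroup.subset_closure ⟨hx, hxx⟩))
    have htop : (C.subgroupOf π.ker).map (QuotientGroup.mk' (F.subgroupOf π.ker)) = ⊤ := by
      rw [eq_top_iff, ← hgen, Subgroup.closure_le]
      intro v hv
      obtain ⟨a, rfl⟩ := QuotientGroup.mk_surjective v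
      exact ⟨a, Subgroup.subset_closure ⟨a.2, fun h => hv (by rw [hqv]; exact h)⟩, rfl⟩
    obtain ⟨a, ha, hav⟩ := (htop ▸ Subgroup.mem_top ((⟨q, hq⟩ : ↥π.ker) : ↥π.ker ⧸ F.subgroupOf π.ker) :
      ((⟨q, hq⟩ : ↥π.ker) : ↥π.ker ⧸ F.subgroupOf π.ker) ∈ (C.subgroupOf π.ker).map (QuotientGroup.mk' _))
    have : (a : G)⁻¹ * q ∈ F := (mk_eq_mk_iff _ _ a ⟨q, hq⟩).1 hav
    have h1 := C.mul_mem (ha : (a : G) ∈ C) (hFC this)
    simpa using h1
  · have h1 := hrad ((⟨z, hz⟩ : ↥π.ker) : ↥π.ker ⧸ F.subgroupOf π.ker) fun v => by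
      obtain ⟨a, rfl⟩ := QuotientGroup.mk_surjective v
      have hk1 : κ z (a : G) = 1 := by
        simp only [κ]
        rw [mul_assoc z⁻¹, ← hzc a a.2]
        group
      have hm := hqmul ⟨z, hz⟩ a
      rw [show κ ((⟨z, hz⟩ : ↥π.ker) : G) a = 1 from hk1, mul_one] at hm
      rw [hm]
      constructor
      · intro hab
        constructor
        · intro h1; rwa [h1, one_mul] at hab
        · intro h1; rwa [h1, mul_one] at hab
      · intro hab
        by_cases h1 : qv ((⟨z, hz⟩ : ↥π.ker) : ↥π.ker ⧸ F.subgroupOf π.ker) = 1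
        · rw [h1, hab.1 h1, one_mul]
        · have hb1 : qv (a : ↥π.ker ⧸ F.subgroupOf π.ker) ≠ 1 := fun h => h1 (hab.2 h)
          have hmem1 := hqF ((⟨z, hz⟩ : ↥π.ker) : ↥π.ker ⧸ F.subgroupOf π.ker)
          have hmem2 := hqF (a : ↥π.ker ⧸ F.subgroupOf π.ker)
          suffices qv ((⟨z, hz⟩ : ↥π.ker) : ↥π.ker ⧸ F.subgroupOf π.ker) = qv a by
            rw [this]; exact c.exp _ hmem2
          by_contra hne
          haveI := Fintype.ofFinite F
          have h3 : ({1, ⟨_, hmem1⟩, ⟨_, hmem2⟩} : Finset ↥F).card = 3 := by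
            have e1 : (1 : ↥F) ≠ ⟨_, hmem1⟩ := fun h => h1 (congrArg Subtype.val h).symm
            have e2 : (1 : ↥F) ≠ ⟨_, hmem2⟩ := fun h => hb1 (congrArg Subtype.val h).symm
            have e3 : (⟨_, hmem1⟩ : ↥F) ≠ ⟨_, hmem2⟩ := fun h => hne (congrArg Subtype.val h)
            simp [e1, e2, e3]
          have h4 := Finset.card_le_univ ({1, ⟨_, hmem1⟩, ⟨_, hmem2⟩} : Finset ↥F)
          rw [h3, ← Nat.card_eq_fintype_card] at h4
          omega
    rw [QuotientGroup.eq_one_iff, Subgroup.mem_subgroupOf] at h1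
    exact h1
  · refine Eq.trans ?_ hc5
    refine Nat.card_congr (Equiv.subtypeEquivRight fun v => ?_)
    constructor
    · rintro ⟨hv, hv1⟩
      obtain ⟨a, rfl⟩ := QuotientGroup.mk_surjective v
      exact ⟨hv, by rw [hqv]; exact hv1 a rfl⟩
    · rintro ⟨hv, hv1⟩
      refine ⟨hv, fun a ha => ?_⟩
      rw [← hqv, ha]
      exact hv1

end Ctx

end CfsgLib.SmallRadical
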